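import Groth.Agent.ColSS.Augment
import Mathlib.AlgebraicTopology.AlternatingFaceMapComplex
import Mathlib.AlgebraicTopology.SimplicialObject.Basic

/-! # The spectral sequence of a cosimplicial cochain complex -/

set_option autoImplicit false
set_option linter.style.haveILetI false

noncomputable section

universe u

open CategoryTheory CategoryTheory.Limits Simplicial AlgebraicTopology

namespace Groth.Agent.Descent

/-- exactness of the augmented alternating complex of a cosimplicial abelian group, elementwise -/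
structure AugExact (A : CosimplicialObject AddCommGrpCat.{u}) {A₀ : AddCommGrpCat.{u}} (ε : A₀ ⟶ A.obj ⦋0⦌) : Prop where
  inj : Function.Injective ε
  exact₀ : ∀ x : A.obj ⦋0⦌, AlternatingCofaceMapComplex.objD A 0 x = 0 → ∃ y, ε y = x
  exact : ∀ (p : ℕ) (x : A.obj ⦋p + 1⦌), AlternatingCofaceMapComplex.objD A (p + 1) x = 0 →
    ∃ w, AlternatingCofaceMapComplex.objD A p w = x

lemma objD_apply (A : CosimplicialObject AddCommGrpCat.{u}) (p : ℕ) (x : A.obj ⦋p⦌) :
    AlternatingCofaceMapComplex.objD A p x = ∑ i : Fin (p + 2), (-1 : ℤ) ^ (i : ℕ) • A.δ i x := by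
  let E : (A.obj ⦋p⦌ ⟶ A.obj ⦋p + 1⦌) →+ A.obj ⦋p + 1⦌ :=
    { toFun := fun f => f.hom x, map_zero' := rfl, map_add' := fun _ _ => rfl }
  refine Eq.trans (map_sum E (fun i : Fin (p + 2) => (-1 : ℤ) ^ (i : ℕ) • A.δ i) Finset.univ) ?_
  exact Finset.sum_congr rfl fun i _ => map_zsmul E _ _

/-- An extra degeneracy makes the augmented alternating complex exact. -/
theorem augExact_of_extraDegeneracy (A : CosimplicialObject AddCommGrpCat.{u}) {A₀ : AddCommGrpCat.{u}}
    (ε : A₀ ⟶ A.obj ⦋0⦌) (h' : A.obj ⦋0⦌ →+ A₀) (h : ∀ p, A.obj ⦋p + 1⦌ →+ A.obj ⦋p⦌)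
    (h1 : ∀ y, h' (ε y) = y) (h2 : ∀ x, h 0 (A.δ 1 x) = ε (h' x))
    (h3 : ∀ p (x : A.obj ⦋p⦌), h p (A.δ 0 x) = x)
    (h4 : ∀ p (i : Fin (p + 2)) (x : A.obj ⦋p + 1⦌), h (p + 1) (A.δ i.succ x) = A.δ i (h p x)) :
    AugExact A ε where
  inj a b hab := by rw [← h1 a, hab, h1]
  exact₀ x hx := by
    refine ⟨h' x, ?_⟩
    have := congrArg (h 0) hx
    rw [objD_apply, map_sum, Fin.sum_univ_two, map_zero] at this
    simp [h2, h3] at this
    rw [add_neg_eq_zero] at this
    exact this.symm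
  exact p x hx := by
    refine ⟨h p x, ?_⟩
    have := congrArg (h (p + 1)) hx
    rw [objD_apply, map_sum, Fin.sum_univ_succ, map_zero] at this
    simp only [map_zsmul, map_neg, h3, h4, Fin.val_zero, pow_zero, one_smul, Fin.val_succ, pow_succ,
      mul_neg, mul_one, neg_smul, Finset.sum_neg_distrib] at this
    rw [objD_apply]
    exact (add_neg_eq_zero.1 this).symm

variable (A : CosimplicialObject (CochainComplex AddCommGrpCat.{u} ℤ))
  (hA : ∀ p, (A.obj ⦋p⦌).IsStrictlyGE 0)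

/-- evaluation in a degree -/
abbrev evalDeg (q : ℤ) : CosimplicialObject AddCommGrpCat.{u} :=
  ((CosimplicialObject.whiskering _ _).obj (HomologicalComplex.eval _ _ q)).obj A

/-- the double complex of a cosimplicial complex -/
def cols : ColSS.Cols.{u} where
  K p := A.obj ⦋p⦌
  ge := hA
  dh p := AlternatingCofaceMapComplex.objD A p
  dh_dh p := AlternatingCofaceMapComplex.d_squared A p

lemma objD_f (p : ℕ) (q : ℤ) (x : (A.obj ⦋p⦌).X q) :
    (AlternatingCofaceMapComplex.objD A p).f q x = AlternatingCofaceMapComplex.objD (evalDeg A q) p x := by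
  refine congrArg (fun m : (A.obj ⦋p⦌).X q ⟶ (A.obj ⦋p + 1⦌).X q => m x) ?_
  refine ((HomologicalComplex.eval _ (ComplexShape.up ℤ) q).map_sum _ _).trans ?_
  exact Finset.sum_congr rfl fun i _ => (HomologicalComplex.eval _ (ComplexShape.up ℤ) q).map_zsmul

include hA in
/-- The spectral sequence of a cosimplicial complex with exact augmented rows. -/
theorem exists_spectralSequence {F₀ : CochainComplex AddCommGrpCat.{u} ℤ} (ε : F₀ ⟶ A.obj ⦋0⦌)
    (hε : ε ≫ A.δ 0 = ε ≫ A.δ 1) (hex : ∀ q, AugExact (evalDeg A q) (ε.f q))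
    (H : ℤ → AddCommGrpCat.{u}) (e : ∀ n, Nonempty (F₀.homology n ≅ H n))
    (P : ℕ → ℕ → AddCommGrpCat.{u}) (hP : ∀ p q : ℕ, Nonempty ((A.obj ⦋p⦌).homology (q : ℤ) ≅ P p q))
    (Z : AddCommGrpCat.{u}) (hZ : IsZero Z) :
    ∃ (E : CohomologicalSpectralSequence AddCommGrpCat.{u} 1) (a : SpSeq.Abutment E H),
      (∀ n, a.IsFinite n) ∧ SpSeq.IsBounded E ∧
      ∀ p q : ℤ, Nonempty ((E.page 1 le_rfl).X (p, q) ≅
        (if 0 ≤ p ∧ 0 ≤ q then P p.toNat q.toNat else Z)) := by
  have hε' : ε ≫ (cols A hA).dh 0 = 0 := by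
    show ε ≫ AlternatingCofaceMapComplex.objD A 0 = 0
    simp [AlternatingCofaceMapComplex.objD, Fin.sum_univ_two, hε]
  refine ColSS.Cols.exists_spectralSequence (cols A hA) H (fun n => ?_) P hP Z hZ
  obtain ⟨a⟩ := ColSS.Cols.nonempty_homology_tot_iso (cols A hA) ε
    (fun q x hx => (hex q).exact₀ x ((objD_f A 0 q x).symm.trans hx))
    (fun p q x hx => by
      obtain ⟨w, hw⟩ := (hex q).exact p x ((objD_f A (p + 1) q x).symm.trans hx)
      exact ⟨w, (objD_f A p q w).trans hw⟩)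
    (fun q => (hex q).inj) hε' n
  exact ⟨a ≪≫ (e n).some⟩

end Groth.Agent.Descent
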