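import Mathlib.Algebra.Homology.ShortComplex.Ab
import Mathlib.Algebra.Category.Grp.Abelian
import Mathlib.Algebra.Category.Grp.Zero
import Mathlib.Algebra.Homology.Embedding.CochainComplex

/-! # Products of complexes of abelian groups -/

set_option autoImplicit false
set_option linter.style.haveILetI false

noncomputable section

universe u

open CategoryTheory CategoryTheory.Limits

namespace Groth.Agent.Descent

variable {J : Type u} (C : J → CochainComplex AddCommGrpCat.{u} ℤ)

/-- the product complex -/
def piCx : CochainComplex AddCommGrpCat.{u} ℤ where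
  X q := AddCommGrpCat.of (∀ j, (C j).X q)
  d q q' := AddCommGrpCat.ofHom
    (AddMonoidHom.mk' (fun c j => (C j).d q q' (c j)) fun _ _ => funext fun _ => map_add _ _ _)
  shape q q' h := AddCommGrpCat.ext fun c => funext fun j =>
    ConcreteCategory.congr_hom ((C j).shape q q' h) (c j)
  d_comp_d' a b c _ _ := AddCommGrpCat.ext fun x => funext fun j =>
    ConcreteCategory.congr_hom ((C j).d_comp_d a b c) (x j)

lemma piCx_d_apply (q q' : ℤ) (c : (piCx C).X q) (j : J) : (piCx C).d q q' c j = (C j).d q q' (c j) := rfl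

/-- maps into a product complex -/
def piLift {D : CochainComplex AddCommGrpCat.{u} ℤ} (g : ∀ j, D ⟶ C j) : D ⟶ piCx C where
  f q := AddCommGrpCat.ofHom
    (AddMonoidHom.mk' (fun x j => (g j).f q x) fun _ _ => funext fun _ => map_add _ _ _)
  comm' q q' _ := AddCommGrpCat.ext fun x => funext fun j =>
    ConcreteCategory.congr_hom ((g j).comm q q') x

/-- the projections -/
def piProj (j : J) : piCx C ⟶ C j where
  f q := AddCommGrpCat.ofHom (AddMonoidHom.mk' (fun c => c j) fun _ _ => rfl)
  comm' _ _ _ := rfl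

@[reassoc]
lemma piLift_proj {D : CochainComplex AddCommGrpCat.{u} ℤ} (g : ∀ j, D ⟶ C j) (j : J) :
    piLift C g ≫ piProj C j = g j := rfl

lemma piCx_hom_ext {D : CochainComplex AddCommGrpCat.{u} ℤ} (g g' : D ⟶ piCx C)
    (h : ∀ j, g ≫ piProj C j = g' ≫ piProj C j) : g = g' := by
  ext q x
  exact funext fun j => ConcreteCategory.congr_hom (congrArg (fun m => HomologicalComplex.Hom.f m q) (h j)) x

lemma isStrictlyGE_piCx (n : ℤ) (h : ∀ j, (C j).IsStrictlyGE n) : (piCx C).IsStrictlyGE n := by
  rw [CochainComplex.isStrictlyGE_iff]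
  intro i hi
  haveI : ∀ j, Subsingleton ((C j).X i) := fun j =>
    haveI := h j
    AddCommGrpCat.subsingleton_of_isZero ((C j).isZero_of_isStrictlyGE n i hi)
  exact @AddCommGrpCat.isZero_of_subsingleton _ (inferInstanceAs (Subsingleton (∀ j, (C j).X i)))

/-- homology commutes with products of abelian groups -/
theorem nonempty_homology_piCx_iso (n : ℤ) (A : J → AddCommGrpCat.{u})
    (e : ∀ j, Nonempty ((C j).homology n ≅ A j)) :
    Nonempty ((piCx C).homology n ≅ AddCommGrpCat.of (∀ j, A j)) := by
  let S := fun j => (C j).sc' (n - 1) n (n + 1)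
  let T := (piCx C).sc' (n - 1) n (n + 1)
  let ψ : T.g.hom.ker →+ ∀ j, (S j).g.hom.ker ⧸ (S j).abToCycles.range :=
    { toFun := fun c j => QuotientAddGroup.mk ⟨c.1 j, congrFun c.2 j⟩
      map_zero' := rfl
      map_add' := fun _ _ => rfl }
  have hsurj : Function.Surjective ψ := fun y => by
    choose z hz using fun j => QuotientAddGroup.mk_surjective (y j)
    exact ⟨⟨fun j => (z j).1, funext fun j => (z j).2⟩, funext hz⟩
  have hker : T.abToCycles.range = ψ.ker := by
    ext c
    constructor
    · rintro ⟨x, rfl⟩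
      exact funext fun j => (QuotientAddGroup.eq_zero_iff _).2 ⟨x j, rfl⟩
    · intro hc
      choose x hx using fun j => (QuotientAddGroup.eq_zero_iff _).1 (congrFun hc j)
      exact ⟨x, Subtype.ext (funext fun j => congrArg Subtype.val (hx j))⟩
  exact ⟨(piCx C).homologyIsoSc' (n - 1) n (n + 1) (by simp) (by simp) ≪≫ T.abHomologyIso ≪≫
    AddEquiv.toAddCommGrpIso (((QuotientAddGroup.quotientAddEquivOfEq hker).trans
      (QuotientAddGroup.quotientKerEquivOfSurjective ψ hsurj)).trans (AddEquiv.piCongrRight fun j =>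
        ((S j).abHomologyIso.symm ≪≫ ((C j).homologyIsoSc' (n - 1) n (n + 1) (by simp) (by simp)).symm ≪≫
          (e j).some).addCommGroupIsoToAddEquiv))⟩

end Groth.Agent.Descent
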