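import Groth.Agent.Descent.LocalHomeo
import Groth.Agent.Descent.PiCx
import Groth.Agent.Godement.Germs
import Mathlib.Topology.LocallyFinite

/-! # Descent for locally finite closed covers -/

set_option autoImplicit false
set_option linter.style.haveILetI false

noncomputable section

universe u

open CategoryTheory CategoryTheory.Limits TopologicalSpace Opposite Simplicial AlgebraicTopology
open scoped Topology

namespace Groth.Agent.Descent.Cover

open Godement

variable {X : TopCat.{u}} {I : Type u} (U : I → Set X)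

/-- the intersection as a space over `X` -/
def P {k : ℕ} (σ : Fin k → I) : Over X :=
  Over.mk (TopCat.ofHom ⟨((↑) : (⋂ a, U (σ a) : Set X) → X), continuous_subtype_val⟩ :
    TopCat.of (⋂ a, U (σ a) : Set X) ⟶ X)

lemma inter_le {k l : ℕ} (σ : Fin k → I) (α : Fin l → Fin k) :
    (⋂ a, U (σ a)) ⊆ ⋂ b, U ((σ ∘ α) b) :=
  Set.subset_iInter fun b => Set.iInter_subset (fun a => U (σ a)) (α b)

/-- the inclusion of intersections -/
def incl {k l : ℕ} (σ : Fin k → I) (α : Fin l → Fin k) : P U σ ⟶ P U (σ ∘ α) :=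
  Over.homMk (TopCat.ofHom ⟨Set.inclusion (inter_le U σ α), continuous_inclusion _⟩) rfl

/-- the inclusion of an intersection into the base -/
def inclBase {k : ℕ} (σ : Fin k → I) : P U σ ⟶ Descent.base := Over.homMk (P U σ).hom (Category.comp_id _)

/-- a point of an intersection -/
def pt {k : ℕ} (σ : Fin k → I) (x : X) (h : ∀ a, x ∈ U (σ a)) : (P U σ).left := ⟨x, Set.mem_iInter.2 h⟩

/-- a system of groups on the points of the spaces over `X` -/
structure Sys where
  /-- the groups -/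
  obj : ∀ Q : Over X, Q.left → AddCommGrpCat.{u}
  /-- the transition maps -/
  map : ∀ {Q R : Over X} (g : Q ⟶ R) (y : Q.left), obj R (g.left y) →+ obj Q y
  map_id : ∀ (Q : Over X) (y : Q.left) (t : obj Q y), map (𝟙 Q) y t = t
  map_comp : ∀ {Q R T : Over X} (g : Q ⟶ R) (g' : R ⟶ T) (y : Q.left) (t : obj T (g'.left (g.left y))),
    map (g ≫ g') y t = map g y (map g' (g.left y) t)

/-- cochains at a point -/
abbrev C (A : Sys.{u} (X := X)) (x : X) (p : ℕ) : AddCommGrpCat.{u} :=
  AddCommGrpCat.of (∀ s : {σ : Fin (p + 1) → I // ∀ a, x ∈ U (σ a)}, A.obj (P U s.1) (pt U s.1 x s.2))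

/-- the cosimplicial group of cochains at a point -/
def row (A : Sys.{u} (X := X)) (x : X) : CosimplicialObject AddCommGrpCat.{u} where
  obj m := C U A x m.len
  map {m m'} α := AddCommGrpCat.ofHom (AddMonoidHom.mk'
    (fun c s => A.map (incl U s.1 α.toOrderHom) (pt U s.1 x s.2) (c ⟨s.1 ∘ α.toOrderHom, fun b => s.2 _⟩))
    fun _ _ => funext fun _ => map_add _ _ _)
  map_id m := AddCommGrpCat.ext fun c => funext fun ⟨σ, h⟩ => A.map_id (P U σ) (pt U σ x h) _
  map_comp {m m' m''} α β := AddCommGrpCat.ext fun c => funext fun ⟨σ, h⟩ =>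
    A.map_comp (incl U σ β.toOrderHom) (incl U (σ ∘ β.toOrderHom) α.toOrderHom) (pt U σ x h) _

/-- the augmentation -/
def aug (A : Sys.{u} (X := X)) (x : X) : A.obj Descent.base x ⟶ (row U A x).obj ⦋0⦌ :=
  AddCommGrpCat.ofHom (AddMonoidHom.mk' (fun b s => A.map (inclBase U s.1) (pt U s.1 x s.2) b)
    fun _ _ => funext fun _ => map_add _ _ _)

/-- exactness at a point -/
def Exact (A : Sys.{u} (X := X)) (x : X) : Prop := AugExact (row U A x) (aug U A x)

variable {A B T : Sys.{u} (X := X)}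

/-- levelwise maps of systems give maps of rows -/
def rowMap (i : ∀ Q y, A.obj Q y →+ B.obj Q y)
    (hi : ∀ {Q R : Over X} (g : Q ⟶ R) (y : Q.left) (t : A.obj R (g.left y)),
      B.map g y (i R (g.left y) t) = i Q y (A.map g y t)) (x : X) : row U A x ⟶ row U B x where
  app m := AddCommGrpCat.ofHom (AddMonoidHom.mk' (fun c s => i _ (pt U s.1 x s.2) (c s))
    fun _ _ => funext fun _ => map_add _ _ _)
  naturality m m' α := AddCommGrpCat.ext fun c => funext fun ⟨σ, h⟩ =>
    (hi (incl U σ α.toOrderHom) (pt U σ x h) (c ⟨σ ∘ α.toOrderHom, fun b => h _⟩)).symm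

lemma objD_nat {R R' : CosimplicialObject AddCommGrpCat.{u}} (m : R ⟶ R') (p : ℕ) (c : R.obj ⦋p⦌) :
    m.app ⦋p + 1⦌ (AlternatingCofaceMapComplex.objD R p c) =
      AlternatingCofaceMapComplex.objD R' p (m.app ⦋p⦌ c) := by
  rw [objD_apply, objD_apply, map_sum]
  refine Finset.sum_congr rfl fun i _ => ?_
  rw [map_zsmul]
  exact congrArg _ (ConcreteCategory.congr_hom (m.naturality (SimplexCategory.δ i)) c)

lemma objD_objD (R : CosimplicialObject AddCommGrpCat.{u}) (p : ℕ) (c : R.obj ⦋p⦌) :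
    AlternatingCofaceMapComplex.objD R (p + 1) (AlternatingCofaceMapComplex.objD R p c) = 0 :=
  ConcreteCategory.congr_hom (AlternatingCofaceMapComplex.d_squared R p) c

lemma objD_aug (x : X) (b : A.obj Descent.base x) :
    AlternatingCofaceMapComplex.objD (row U A x) 0 (aug U A x b) = 0 := by
  rw [objD_apply, Fin.sum_univ_two]
  have : ∀ i : Fin 2, (row U A x).δ i (aug U A x b) =
      (fun s => A.map (inclBase U s.1) (pt U s.1 x s.2) b : C U A x 1) := fun i =>
    funext fun ⟨σ, h⟩ =>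
      (A.map_comp (incl U σ (SimplexCategory.δ i).toOrderHom) (inclBase U _) (pt U σ x h) b).symm
  simp [this]

/-- Exactness passes to quotients. -/
theorem exact_of_shortExact (i : ∀ Q y, A.obj Q y →+ B.obj Q y) (π : ∀ Q y, B.obj Q y →+ T.obj Q y)
    (hi : ∀ {Q R : Over X} (g : Q ⟶ R) (y : Q.left) (t : A.obj R (g.left y)),
      B.map g y (i R (g.left y) t) = i Q y (A.map g y t))
    (hπ : ∀ {Q R : Over X} (g : Q ⟶ R) (y : Q.left) (t : B.obj R (g.left y)),
      T.map g y (π R (g.left y) t) = π Q y (B.map g y t))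
    (hinj : ∀ Q y, Function.Injective (i Q y)) (hsurj : ∀ Q y, Function.Surjective (π Q y))
    (hz : ∀ Q y a, π Q y (i Q y a) = 0) (hex : ∀ Q y b, π Q y b = 0 → ∃ a, i Q y a = b)
    (x : X) (hA : Exact U A x) (hB : Exact U B x) : Exact U T x := by
  let I' := rowMap U i hi x
  let P' := rowMap U π hπ x
  have Isurj : ∀ m (c : (row U T x).obj m), ∃ b, P'.app m b = c := fun m c => by
    choose b hb using fun s => hsurj (P U (Subtype.val s)) (pt U (Subtype.val s) x (Subtype.property s)) (c s)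
    exact ⟨b, funext hb⟩
  have Iex : ∀ m (b : (row U B x).obj m), P'.app m b = 0 → ∃ a, I'.app m a = b := fun m b hb => by
    choose a ha using fun s => hex (P U (Subtype.val s)) (pt U (Subtype.val s) x (Subtype.property s)) (b s) (congrFun hb s)
    exact ⟨a, funext ha⟩
  have Iinj : ∀ m, Function.Injective (I'.app m) := fun m a a' h =>
    funext fun s => hinj _ _ (congrFun h s)
  have Iz : ∀ m a, P'.app m (I'.app m a) = 0 := fun m a => funext fun ⟨σ, h⟩ => hz _ _ _
  have augI : ∀ a, I'.app ⦋0⦌ (aug U A x a) = aug U B x (i (Descent.base : Over X) x a) := fun a =>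
    funext fun ⟨σ, h⟩ => (hi (inclBase U σ) (pt U σ x h) a).symm
  have augP : ∀ b, P'.app ⦋0⦌ (aug U B x b) = aug U T x (π (Descent.base : Over X) x b) := fun b =>
    funext fun ⟨σ, h⟩ => (hπ (inclBase U σ) (pt U σ x h) b).symm
  refine ⟨(injective_iff_map_eq_zero (aug U T x).hom).2 fun c hc => ?_, fun c hc => ?_, fun p c hc => ?_⟩
  · obtain ⟨b, rfl⟩ := hsurj (Descent.base : Over X) x c
    obtain ⟨a, ha⟩ := Iex ⦋0⦌ (aug U B x b) ((augP b).trans hc)
    obtain ⟨a₀, rfl⟩ := hA.exact₀ a (Iinj ⦋1⦌ (by rw [objD_nat I', ha, objD_aug, map_zero]))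
    rw [augI] at ha
    rw [← hB.inj ha, hz]
  · obtain ⟨b, rfl⟩ := Isurj ⦋0⦌ c
    obtain ⟨a, ha⟩ := Iex ⦋1⦌ (AlternatingCofaceMapComplex.objD (row U B x) 0 b) (by rw [objD_nat P', hc])
    obtain ⟨a', rfl⟩ := hA.exact 0 a (Iinj ⦋0 + 1 + 1⦌ (by rw [objD_nat I', ha, objD_objD, map_zero]))
    rw [objD_nat I'] at ha
    obtain ⟨b₀, hb₀⟩ := hB.exact₀ (b - I'.app _ a') (by rw [map_sub, ha, sub_self])
    refine ⟨π (Descent.base : Over X) x b₀, ?_⟩
    rw [← augP, hb₀, map_sub, Iz, sub_zero]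
  · obtain ⟨b, rfl⟩ := Isurj ⦋p + 1⦌ c
    obtain ⟨a, ha⟩ := Iex ⦋p + 1 + 1⦌ (AlternatingCofaceMapComplex.objD (row U B x) (p + 1) b) (by rw [objD_nat P', hc])
    obtain ⟨a', rfl⟩ := hA.exact (p + 1) a (Iinj ⦋p + 1 + 1 + 1⦌ (by rw [objD_nat I', ha, objD_objD, map_zero]))
    rw [objD_nat I'] at ha
    obtain ⟨b₀, hb₀⟩ := hB.exact p (b - I'.app _ a') (by rw [map_sub, ha, sub_self])
    refine ⟨P'.app _ b₀, ?_⟩
    rw [← objD_nat P', hb₀, map_sub, Iz, sub_zero]

variable (F : CohTop.Ab X) (n : ℕ)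

lemma coh_id_left (Q : Over X) : coh F (𝟙 Q : Q ⟶ Q).left (Over.w _) = Coh.id _ := coh_id F _

lemma coh_comp_left {Q R T : Over X} (g : Q ⟶ R) (g' : R ⟶ T) :
    coh F (g ≫ g').left (Over.w _) = (coh F g'.left (Over.w g')).comp (coh F g.left (Over.w g)) :=
  coh_comp F g'.left g.left _ _ _

/-- the stalks of the quotients -/
def stSys : Sys.{u} (X := X) where
  obj := St F n
  map g y := stMap F n g y
  map_id Q y t := by
    show (Qnmap (coh F (𝟙 Q : Q ⟶ Q).left (Over.w _)) n).stalk y t = t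
    rw [coh_id_left, Qnmap_id]
    exact Coh.stalk_id _ _ _
  map_comp {Q R T} g g' y t := by
    show (Qnmap (coh F (g ≫ g').left (Over.w _)) n).stalk y t = _
    rw [coh_comp_left, Qnmap_comp]
    exact Coh.stalk_comp _ _ y t

/-- the stalks of the Godement sheaves -/
def gSys : Sys.{u} (X := X) where
  obj Q y := CohTop.stalk (G0 (Qn ((CohTop.pull Q.hom).obj F) n)) y
  map g y := (G0map (Qnmap (coh F g.left (Over.w g)) n)).stalk y
  map_id Q y t := by
    show (G0map (Qnmap (coh F (𝟙 Q : Q ⟶ Q).left (Over.w _)) n)).stalk y t = t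
    rw [coh_id_left, Qnmap_id, G0map_id]
    exact Coh.stalk_id _ _ _
  map_comp {Q R T} g g' y t := by
    show (G0map (Qnmap (coh F (g ≫ g').left (Over.w _)) n)).stalk y t = _
    rw [coh_comp_left, Qnmap_comp, G0map_comp]
    exact Coh.stalk_comp _ _ y t

/-- the cosimplicial group of all families -/
def famRow : CosimplicialObject AddCommGrpCat.{u} where
  obj m := AddCommGrpCat.of (∀ σ : Fin (m.len + 1) → I, Fam F n (P U σ))
  map {m m'} α := AddCommGrpCat.ofHom (AddMonoidHom.mk'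
    (fun c σ => fmap F n (incl U σ α.toOrderHom) (c (σ ∘ α.toOrderHom)))
    fun _ _ => funext fun _ => map_add _ _ _)
  map_id m := AddCommGrpCat.ext fun c => funext fun σ => funext fun y =>
    (stSys F n).map_id (P U σ) y.1 _
  map_comp {m m' m''} α β := AddCommGrpCat.ext fun c => funext fun σ => funext fun y =>
    (stSys F n).map_comp (incl U σ β.toOrderHom) (incl U (σ ∘ β.toOrderHom) α.toOrderHom) y.1 _

/-- the augmentation of the families -/
def famAug : Fam F n (Descent.base : Over X) ⟶ (famRow U F n).obj ⦋0⦌ :=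
  AddCommGrpCat.ofHom (AddMonoidHom.mk' (fun b σ => fmap F n (inclBase U σ) b)
    fun _ _ => funext fun _ => map_add _ _ _)

/-- evaluation at a point -/
def ev (x : X) : famRow U F n ⟶ row U (stSys F n) x where
  app m := AddCommGrpCat.ofHom (AddMonoidHom.mk' (fun c s => c s.1 ⟨pt U s.1 x s.2, trivial⟩) fun _ _ => rfl)
  naturality _ _ _ := rfl

lemma ev_famAug (x : X) (b : Fam F n (Descent.base : Over X)) :
    (ev U F n x).app ⦋0⦌ (famAug U F n b) = aug U (stSys F n) x (b ⟨x, trivial⟩) := rfl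

/-- germs at a point -/
def germs (x : X) : famRow U F n ⟶ row U (gSys F n) x where
  app m := AddCommGrpCat.ofHom (AddMonoidHom.mk' (fun c s => germFam _ (pt U s.1 x s.2) (c s.1))
    fun _ _ => funext fun _ => map_add _ _ _)
  naturality m m' α := AddCommGrpCat.ext fun c => funext fun ⟨σ, h⟩ =>
    (stalk_G0map_germFam (Qnmap (coh F (incl U σ α.toOrderHom).left (Over.w _)) n) (pt U σ x h)
      (c (σ ∘ α.toOrderHom))).symm

lemma germs_famAug (x : X) (b : Fam F n (Descent.base : Over X)) :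
    (germs U F n x).app ⦋0⦌ (famAug U F n b) =
      aug U (gSys F n) x (germFam (Qn ((CohTop.pull (Descent.base : Over X).hom).obj F) n) x b) :=
  funext fun ⟨σ, h⟩ =>
    (stalk_G0map_germFam (Qnmap (coh F (inclBase U σ).left (Over.w _)) n) (pt U σ x h) b).symm

/-- from pointwise exactness to families: a primitive of `c` near a point set -/
lemma exists_primitive (hx : ∀ z, Exact U (stSys F n) z) (p : ℕ) (c : (famRow U F n).obj ⦋p + 1⦌) :
    ∃ w : (famRow U F n).obj ⦋p⦌, ∀ z : X,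
      (ev U F n z).app _ (AlternatingCofaceMapComplex.objD (famRow U F n) (p + 1) c) = 0 →
      AlternatingCofaceMapComplex.objD (row U (stSys F n) z) p ((ev U F n z).app _ w) = (ev U F n z).app _ c := by
  classical
  have h : ∀ z : X, ∃ w : (row U (stSys F n) z).obj ⦋p⦌,
      (ev U F n z).app _ (AlternatingCofaceMapComplex.objD (famRow U F n) (p + 1) c) = 0 →
      AlternatingCofaceMapComplex.objD (row U (stSys F n) z) p w = (ev U F n z).app _ c := fun z => by
    by_cases hz : (ev U F n z).app _ (AlternatingCofaceMapComplex.objD (famRow U F n) (p + 1) c) = 0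
    · obtain ⟨w, hw⟩ := (hx z).exact p _ ((objD_nat (ev U F n z) (p + 1) c).symm.trans hz)
      exact ⟨w, fun _ => hw⟩
    · exact ⟨0, fun h' => absurd h' hz⟩
  choose w hw using h
  exact ⟨fun σ y => w y.1.1 ⟨σ, Set.mem_iInter.1 y.1.2⟩, fun z hz => hw z hz⟩

lemma exists_primitive₀ (hx : ∀ z, Exact U (stSys F n) z) (c : (famRow U F n).obj ⦋0⦌) :
    ∃ w : Fam F n (Descent.base : Over X), ∀ z : X,
      (ev U F n z).app _ (AlternatingCofaceMapComplex.objD (famRow U F n) 0 c) = 0 →
      aug U (stSys F n) z (w ⟨z, trivial⟩) = (ev U F n z).app _ c := by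
  classical
  have h : ∀ z : X, ∃ w : St F n Descent.base z,
      (ev U F n z).app _ (AlternatingCofaceMapComplex.objD (famRow U F n) 0 c) = 0 →
      aug U (stSys F n) z w = (ev U F n z).app _ c := fun z => by
    by_cases hz : (ev U F n z).app _ (AlternatingCofaceMapComplex.objD (famRow U F n) 0 c) = 0
    · obtain ⟨w, hw⟩ := (hx z).exact₀ _ ((objD_nat (ev U F n z) 0 c).symm.trans hz)
      exact ⟨w, fun _ => hw⟩
    · exact ⟨0, fun h' => absurd h' hz⟩
  choose w hw using h
  exact ⟨fun y => w y.1, fun z hz => hw z hz⟩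

/-- global exactness from pointwise exactness -/
theorem augExact_famRow (hx : ∀ z, Exact U (stSys F n) z) : AugExact (famRow U F n) (famAug U F n) := by
  refine ⟨fun a b h => funext fun y => ?_, fun c hc => ?_, fun p c hc => ?_⟩
  · exact (hx y.1).inj (((ev_famAug U F n y.1 a).symm.trans
      (congrArg ((ev U F n y.1).app ⦋0⦌) h)).trans (ev_famAug U F n y.1 b))
  · obtain ⟨w, hw⟩ := exists_primitive₀ U F n hx c
    refine ⟨w, funext fun σ => funext fun y => ?_⟩
    exact congrFun (hw y.1.1 (by rw [hc, map_zero])) ⟨σ, Set.mem_iInter.1 y.1.2⟩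
  · obtain ⟨w, hw⟩ := exists_primitive U F n hx p c
    refine ⟨w, funext fun σ => funext fun y => ?_⟩
    exact congrFun ((objD_nat (ev U F n y.1.1) p w).trans (hw y.1.1 (by rw [hc, map_zero])))
      ⟨σ, Set.mem_iInter.1 y.1.2⟩

variable (hU : ∀ i, IsClosed (U i)) (hlf : LocallyFinite U)

include hU hlf in
lemma eventually_zero_of_germs (x : X) (p : ℕ) (c : (famRow U F n).obj ⦋p⦌) (hc : (germs U F n x).app _ c = 0) :
    ∀ᶠ z in 𝓝 x, (ev U F n z).app _ c = 0 := by
  have hfin : Set.Finite {σ : Fin (p + 1) → I | ∀ a, x ∈ U (σ a)} :=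
    (Set.Finite.pi fun _ : Fin (p + 1) => hlf.point_finite x).subset fun σ hσ a _ => hσ a
  have h1 : ∀ σ ∈ {σ : Fin (p + 1) → I | ∀ a, x ∈ U (σ a)}, ∀ᶠ z in 𝓝 x, ∀ h : (∀ a, z ∈ U (σ a)),
      c σ ⟨pt U σ z h, trivial⟩ = 0 := fun σ hσ => by
    have h2 : ∀ᶠ y in 𝓝 (pt U σ x hσ), c σ ⟨y, trivial⟩ = 0 :=
      (germFam_eq_zero_iff _ _ _).1 (congrFun hc ⟨σ, hσ⟩)
    have h3 : ∀ᶠ z in 𝓝 x, ∀ y : (⋂ a, U (σ a) : Set X), y.1 = z → c σ ⟨y, trivial⟩ = 0 :=
      Filter.eventually_comap.1 (by rw [← nhds_subtype_eq_comap]; exact h2)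
    exact h3.mono fun z hz h => hz _ rfl
  filter_upwards [hfin.eventually_all.2 h1, hlf.iInter_compl_mem_nhds hU x] with z hz hz'
  refine funext fun ⟨σ, h⟩ => hz σ (fun a => ?_) h
  by_contra hxa
  exact Set.mem_iInter₂.1 hz' (σ a) hxa (h a)

lemma germs_surjective (x : X) (p : ℕ) : Function.Surjective ((germs U F n x).app ⦋p⦌) := fun c => by
  classical
  have h : ∀ σ : Fin (p + 1) → I, ∃ f : Fam F n (P U σ), ∀ h : (∀ a, x ∈ U (σ a)),
      germFam _ (pt U σ x h) f = c ⟨σ, h⟩ := fun σ => by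
    by_cases h : ∀ a, x ∈ U (σ a)
    · obtain ⟨f, hf⟩ := germFam_surjective _ (pt U σ x h) (c ⟨σ, h⟩)
      exact ⟨f, fun _ => hf⟩
    · exact ⟨0, fun h' => absurd h' h⟩
  choose f hf using h
  exact ⟨f, funext fun ⟨σ, h⟩ => hf σ h⟩

lemma germs_eq_of_eventually (x : X) (p : ℕ) (a b : (famRow U F n).obj ⦋p⦌)
    (h : ∀ᶠ z in 𝓝 x, (ev U F n z).app _ a = (ev U F n z).app _ b) :
    (germs U F n x).app _ a = (germs U F n x).app _ b := by
  rw [← sub_eq_zero, ← map_sub]
  refine funext fun ⟨σ, hσ⟩ => (germFam_eq_zero_iff _ _ _).2 ?_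
  have h' : ∀ᶠ y in 𝓝 (pt U σ x hσ), (ev U F n y.1).app ⦋p⦌ a = (ev U F n y.1).app ⦋p⦌ b :=
    (continuous_subtype_val.tendsto (pt U σ x hσ)).eventually h
  filter_upwards [h'] with y hy
  exact sub_eq_zero.2 (congrFun hy ⟨σ, Set.mem_iInter.1 y.2⟩)

include hU hlf in
/-- exactness for the stalks of the Godement sheaves -/
theorem exact_gSys (hx : ∀ z, Exact U (stSys F n) z) (x : X) : Exact U (gSys F n) x := by
  refine ⟨(injective_iff_map_eq_zero (aug U (gSys F n) x).hom).2 fun t ht => ?_, fun c hc => ?_, fun p c hc => ?_⟩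
  · obtain ⟨b, rfl⟩ := germFam_surjective _ _ t
    rw [← germs_famAug] at ht
    refine (germFam_eq_zero_iff _ _ _).2 ?_
    filter_upwards [eventually_zero_of_germs U F n hU hlf x 0 _ ht] with z hz
    exact (hx z).inj (((ev_famAug U F n z b).symm.trans hz).trans (map_zero _).symm)
  · obtain ⟨c, rfl⟩ := germs_surjective U F n x 0 c
    rw [← objD_nat] at hc
    obtain ⟨w, hw⟩ := exists_primitive₀ U F n hx c
    refine ⟨germFam (Qn ((CohTop.pull (Descent.base : Over X).hom).obj F) n) x w, ?_⟩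
    rw [← germs_famAug]
    refine germs_eq_of_eventually U F n x 0 _ _ ?_
    filter_upwards [eventually_zero_of_germs U F n hU hlf x 1 _ hc] with z hz
    exact (ev_famAug U F n z w).trans (hw z hz)
  · obtain ⟨c, rfl⟩ := germs_surjective U F n x (p + 1) c
    rw [← objD_nat] at hc
    obtain ⟨w, hw⟩ := exists_primitive U F n hx p c
    refine ⟨(germs U F n x).app _ w, ?_⟩
    rw [← objD_nat]
    refine germs_eq_of_eventually U F n x (p + 1) _ _ ?_
    filter_upwards [eventually_zero_of_germs U F n hU hlf x (p + 1 + 1) _ hc] with z hz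
    rw [objD_nat]
    exact hw z hz

variable (hcov : ⋃ i, U i = Set.univ)

include hcov in
theorem exact_stSys_zero (x : X) : Exact U (stSys F 0) x := by
  obtain ⟨i₀, hi₀⟩ := Set.mem_iUnion.1 (hcov.symm ▸ Set.mem_univ x : x ∈ ⋃ i, U i)
  let e : ∀ {k : ℕ} (σ : Fin k → I) (h : ∀ a, x ∈ U (σ a)),
      St F 0 Descent.base x ≃+ St F 0 (P U σ) (pt U σ x h) := fun σ h =>
    AddEquiv.ofBijective (stMap F 0 (inclBase U σ) (pt U σ x h)) (bijective_coh_stalk F _ _ _)
  have he : ∀ {k l : ℕ} (σ : Fin k → I) (h : ∀ a, x ∈ U (σ a)) (α : Fin l → Fin k) (b : St F 0 Descent.base x),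
      stMap F 0 (incl U σ α) (pt U σ x h) (e (σ ∘ α) (fun a => h (α a)) b) = e σ h b := fun σ h α b =>
    ((stSys F 0).map_comp (incl U σ α) (inclBase U (σ ∘ α)) (pt U σ x h) b).symm
  have he' : ∀ {k l : ℕ} (σ : Fin k → I) (h : ∀ a, x ∈ U (σ a)) (α : Fin l → Fin k)
      (t : St F 0 (P U (σ ∘ α)) (pt U (σ ∘ α) x fun a => h (α a))),
      (e σ h).symm (stMap F 0 (incl U σ α) (pt U σ x h) t) = (e (σ ∘ α) (fun a => h (α a))).symm t := by
    intro k l σ h α t
    obtain ⟨b, rfl⟩ := (e (σ ∘ α) fun a => h (α a)).surjective t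
    rw [he, AddEquiv.symm_apply_apply]
    exact ((e (σ ∘ α) fun a => h (α a)).symm_apply_apply b).symm
  have hcongr : ∀ {k : ℕ} (c : ∀ s : {σ : Fin k → I // ∀ a, x ∈ U (σ a)}, St F 0 (P U s.1) (pt U s.1 x s.2))
      {σ σ' : Fin k → I} (_ : σ = σ') (h : ∀ a, x ∈ U (σ a)) (h' : ∀ a, x ∈ U (σ' a)),
      (e σ h).symm (c ⟨σ, h⟩) = (e σ' h').symm (c ⟨σ', h'⟩) := by
    intro k c σ σ' hh h h'
    subst hh
    rfl
  have hcons : ∀ {k : ℕ} {σ : Fin k → I}, (∀ a, x ∈ U (σ a)) →
      ∀ a, x ∈ U ((Fin.cons i₀ σ : Fin (k + 1) → I) a) := fun h a => by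
    induction a using Fin.cases with
    | zero => simpa using hi₀
    | succ a => simpa using h a
  let h' : (row U (stSys F 0) x).obj ⦋0⦌ →+ (stSys F 0).obj Descent.base x :=
    AddMonoidHom.mk' (fun c => (e (fun _ => i₀) (fun _ => hi₀)).symm (c ⟨fun _ => i₀, fun _ => hi₀⟩))
      fun a b => map_add (e (fun _ => i₀) (fun _ => hi₀)).symm _ _
  let hh : ∀ p, (row U (stSys F 0) x).obj ⦋p + 1⦌ →+ (row U (stSys F 0) x).obj ⦋p⦌ := fun p =>
    AddMonoidHom.mk' (fun c s => e s.1 s.2 ((e (Fin.cons i₀ s.1) (hcons s.2)).symm (c ⟨Fin.cons i₀ s.1, hcons s.2⟩)))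
      fun a b => funext fun s => map_add ((e s.1 s.2).toAddMonoidHom.comp
        (e (Fin.cons i₀ s.1) (hcons s.2)).symm.toAddMonoidHom) _ _
  have hhh : ∀ (p : ℕ) (k : Fin (p + 2)) (c : (row U (stSys F 0) x).obj ⦋p⦌) (σ : Fin (p + 1) → I)
      (h : ∀ a, x ∈ U (σ a)), hh p ((row U (stSys F 0) x).δ k c) ⟨σ, h⟩ =
        e σ h ((e ((Fin.cons i₀ σ : Fin (p + 2) → I) ∘ k.succAbove) (fun a => hcons h _)).symm
          (c ⟨(Fin.cons i₀ σ : Fin (p + 2) → I) ∘ k.succAbove, fun a => hcons h _⟩)) := fun p k c σ h =>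
    congrArg (e σ h) (he' (Fin.cons i₀ σ : Fin (p + 2) → I) (hcons h) k.succAbove _)
  refine augExact_of_extraDegeneracy _ _ h' hh (fun b => ?_) (fun c => ?_) (fun p c => ?_) (fun p i c => ?_)
  · exact (e (fun _ => i₀) fun _ => hi₀).symm_apply_apply b
  · refine funext fun ⟨σ, h⟩ => (hhh 0 1 c σ h).trans (congrArg (e σ h) (hcongr c (funext fun a => ?_) _ _))
    obtain rfl := Fin.fin_one_eq_zero a
    simp
  · refine funext fun ⟨σ, h⟩ => (hhh p 0 c σ h).trans ((congrArg (e σ h)
      (hcongr c (σ' := σ) (funext fun a => ?_) _ h)).trans ((e σ h).apply_symm_apply _))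
    simp
  · refine funext fun ⟨σ, h⟩ => (hhh (p + 1) i.succ c σ h).trans ?_
    refine Eq.trans ?_ (he σ h i.succAbove _).symm
    refine congrArg (e σ h) (hcongr c (funext fun a => ?_) _ _)
    show (Fin.cons i₀ σ : Fin (p + 3) → I) (i.succ.succAbove a) = (Fin.cons i₀ (σ ∘ i.succAbove) : Fin (p + 2) → I) a
    induction a using Fin.cases with
    | zero => simp
    | succ a => simp

include hU hlf hcov in
theorem exact_stSys (x : X) : Exact U (stSys F n) x := by
  induction n generalizing x with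
  | zero => exact exact_stSys_zero U F hcov x
  | succ n ih =>
    refine exact_of_shortExact U (A := stSys F n) (B := gSys F n) (T := stSys F (n + 1))
      (fun Q y => stalkMap (η (Qn ((CohTop.pull Q.hom).obj F) n)) y)
      (fun Q y => stalkMap (π (Qn ((CohTop.pull Q.hom).obj F) n)) y)
      (fun g y t => stalk_η _ y t) (fun g y t => stalk_π _ y t)
      (fun Q y => stalkMap_η_injective _ y) (fun Q y => stalkMap_π_surjective _ y)
      (fun Q y t => stalkMap_π_η _ y t) (fun Q y t ht => exists_stalkMap_η_eq _ y t ht) x (ih x)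
      (exact_gSys U F n hU hlf ih x)

/-- the cosimplicial complex of the cover -/
def coverCx : CosimplicialObject (CochainComplex AddCommGrpCat.{u} ℤ) where
  obj m := piCx fun σ : Fin (m.len + 1) → I => (Godement.M F).obj (op (P U σ))
  map {m m'} α := piLift _ fun σ => piProj _ (σ ∘ α.toOrderHom) ≫ (Godement.M F).map (incl U σ α.toOrderHom).op
  map_id m := piCx_hom_ext _ _ _ fun σ => by
    rw [piLift_proj, Category.id_comp]
    refine (congrArg (piProj _ σ ≫ ·) ((Godement.M F).map_id (op (P U σ)))).trans (Category.comp_id _)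
  map_comp {m m' m''} α β := piCx_hom_ext _ _ _ fun σ => by
    rw [piLift_proj, Category.assoc, piLift_proj, piLift_proj_assoc, Category.assoc, ← Functor.map_comp]
    rfl

/-- the augmentation of the cosimplicial complex -/
def coverAug : (Godement.M F).obj (op Descent.base) ⟶ (coverCx U F).obj ⦋0⦌ :=
  piLift _ fun σ => (Godement.M F).map (inclBase U σ).op

lemma coverAug_δ (i : Fin 2) :
    coverAug U F ≫ (coverCx U F).δ i =
      piLift _ fun σ : Fin 2 → I => (Godement.M F).map (inclBase U σ).op := by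
  refine piCx_hom_ext _ _ _ fun σ => ?_
  rw [piLift_proj]
  refine (Category.assoc _ _ _).trans ?_
  refine (congrArg (coverAug U F ≫ ·) (piLift_proj _ _ σ)).trans ?_
  refine ((Category.assoc _ _ _).symm.trans (congrArg (· ≫ _) (piLift_proj _ _ _))).trans ?_
  exact ((Godement.M F).map_comp _ _).symm

/-- the terms of the complex in non negative degrees -/
def coverEvalIso (q : ℕ) : evalDeg (coverCx U F) (q : ℤ) ≅ famRow U F q :=
  NatIso.ofComponents (fun m => AddEquiv.toAddCommGrpIso (AddEquiv.piCongrRight fun σ : Fin (m.len + 1) → I =>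
    ((MEvalIso F q).app (op (P U σ))).addCommGroupIsoToAddEquiv))
    fun {m m'} α => AddCommGrpCat.ext fun c => funext fun σ =>
      ConcreteCategory.congr_hom ((MEvalIso F q).hom.naturality (incl U σ α.toOrderHom).op) (c (σ ∘ α.toOrderHom))

include hU hlf hcov in
theorem augExact_coverCx (q : ℤ) : AugExact (evalDeg (coverCx U F) q) ((coverAug U F).f q) := by
  by_cases hq : q < 0
  · have hz : ∀ Q, Subsingleton (((Godement.M F).obj Q).X q) := fun Q =>
      haveI := isStrictlyGE_M F Q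
      AddCommGrpCat.subsingleton_of_isZero (CochainComplex.isZero_of_isStrictlyGE _ 0 q hq)
    refine ⟨fun a b _ => (hz _).elim a b, fun x _ => ⟨0, ?_⟩, fun p x _ => ⟨0, ?_⟩⟩
    · exact funext fun σ => (hz (op (P U σ))).elim _ _
    · exact funext fun σ => (hz (op (P U σ))).elim _ _
  · obtain ⟨m, rfl⟩ := Int.eq_ofNat_of_zero_le (not_lt.1 hq)
    exact AugExact.of_iso (coverEvalIso U F m) (B' := Fam F m (Descent.base : Over X)) (ε' := famAug U F m) ((MEvalIso F m).app _)
      (AddCommGrpCat.ext fun b => funext fun σ =>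
        ConcreteCategory.congr_hom ((MEvalIso F m).hom.naturality (inclBase U σ).op) b)
      (augExact_famRow U F m (exact_stSys U F m hU hlf hcov))

include hU hlf hcov in
/-- The descent spectral sequence of a locally finite closed cover. -/
theorem exists_cover_spectralSequence :
    ∃ (E : CohomologicalSpectralSequence AddCommGrpCat.{u} 1)
      (a : SpSeq.Abutment E (fun n : ℤ =>
        if 0 ≤ n then AddCommGrpCat.of (CohTop.H F n.toNat) else AddCommGrpCat.of PUnit.{u + 1})),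
      (∀ n, a.IsFinite n) ∧ SpSeq.IsBounded E ∧
      ∀ p q : ℤ, Nonempty ((E.page 1 le_rfl).X (p, q) ≅
        (if 0 ≤ p ∧ 0 ≤ q then
          AddCommGrpCat.of (∀ σ : Fin (p.toNat + 1) → I,
            CohTop.H ((CohTop.pull (TopCat.ofHom ⟨((↑) : (⋂ k, U (σ k) : Set X) → X), continuous_subtype_val⟩ :
              TopCat.of (⋂ k, U (σ k) : Set X) ⟶ X)).obj F) q.toNat)
         else AddCommGrpCat.of PUnit.{u + 1})) := by
  refine Descent.exists_spectralSequence (coverCx U F) (fun p => isStrictlyGE_piCx _ 0 fun σ => isStrictlyGE_M F _)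
    (coverAug U F) ((coverAug_δ U F 0).trans (coverAug_δ U F 1).symm) (augExact_coverCx U F hU hlf hcov)
    _ (fun n => ?_)
    (fun p q => AddCommGrpCat.of (∀ σ : Fin (p + 1) → I, CohTop.H ((CohTop.pull (P U σ).hom).obj F) q))
    (fun p q => nonempty_homology_piCx_iso _ (q : ℤ)
      (fun σ : Fin (p + 1) → I => AddCommGrpCat.of (CohTop.H ((CohTop.pull (P U σ).hom).obj F) q))
      fun σ => nonempty_homology_M_iso F _ q)
    (AddCommGrpCat.of PUnit.{u + 1}) (AddCommGrpCat.isZero_of_subsingleton _)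
  by_cases hn : 0 ≤ n
  · rw [if_pos hn]
    obtain ⟨n, rfl⟩ := Int.eq_ofNat_of_zero_le hn
    exact nonempty_homology_M_id_iso F n
  · rw [if_neg hn]
    haveI := isStrictlyGE_M F (op (Descent.base : Over X))
    refine ⟨IsZero.iso ?_ (AddCommGrpCat.isZero_of_subsingleton _)⟩
    exact (ShortComplex.exact_iff_isZero_homology _).1
      (ShortComplex.exact_of_isZero_X₂ _
        (CochainComplex.isZero_of_isStrictlyGE ((Godement.M F).obj (op (Descent.base : Over X))) 0 n (by omega) :))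

end Groth.Agent.Descent.Cover
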