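import Groth.Agent.Descent.Nerve
import Groth.Agent.Godement.Stalk

/-! # Descent for surjective local homeomorphisms -/

set_option autoImplicit false
set_option linter.style.haveILetI false

noncomputable section

universe u

open CategoryTheory CategoryTheory.Limits TopologicalSpace Opposite Simplicial AlgebraicTopology

namespace Groth.Agent.Descent

open Godement

variable {S : TopCat.{u}} (F : CohTop.Ab S) (n : ℕ)

/-- the stalks of the quotients on a space over the base -/
abbrev St (P : Over S) (y : P.left) : AddCommGrpCat.{u} := CohTop.stalk (Qn ((CohTop.pull P.hom).obj F) n) y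

/-- the base as a space over itself -/
abbrev base : Over S := Over.mk (𝟙 S)

/-- the comparison with the stalks on the base -/
def θ (P : Over S) (y : P.left) : St F n (base : Over S) (P.hom y) →+ St F n P y :=
  (Qnmap (coh F P.hom (show P.hom ≫ 𝟙 S = P.hom from Category.comp_id _)) n).stalk y

lemma bijective_θ (P : Over S) (hP : IsLocalHomeomorph P.hom) (y : P.left) : Function.Bijective (θ F n P y) :=
  bijective_stalk_Qnmap hP _ (fun y => bijective_coh_stalk F _ _ y) n y

/-- the stalk map of a morphism -/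
def stMap {P P' : Over S} (g : P ⟶ P') (y : P.left) : St F n P' (g.left y) →+ St F n P y :=
  (Qnmap (coh F g.left (Over.w g)) n).stalk y

lemma stMap_θ {P P' : Over S} (g : P ⟶ P') (y : P.left) (h : P.hom y = P'.hom (g.left y))
    (b : St F n (base : Over S) (P'.hom (g.left y))) :
    stMap F n g y (θ F n P' (g.left y) b) = θ F n P y (h ▸ b) := by
  obtain ⟨a', hw⟩ : ∃ a', g.left ≫ P'.hom = a' := ⟨_, rfl⟩
  have key : ∀ (a : P.left ⟶ S) (hw : g.left ≫ P'.hom = a) (h : a y = P'.hom (g.left y)),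
      (Qnmap (coh F g.left hw) n).stalk y (θ F n P' (g.left y) b) =
        (Qnmap (coh F a (show a ≫ 𝟙 S = a from Category.comp_id _)) n).stalk y (h ▸ b) := by
    intro a hw h
    subst hw
    refine ((Coh.stalk_comp _ _ y b).symm.trans ?_)
    rw [← Qnmap_comp, ← coh_comp F _ _ _ _ (show (g.left ≫ P'.hom) ≫ 𝟙 S = g.left ≫ P'.hom from Category.comp_id _)]
  exact key P.hom (Over.w g) h

/-- families of stalk elements -/
abbrev Fam (P : Over S) : AddCommGrpCat.{u} := ΓG ((CohTop.pull P.hom).obj F) n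

variable {P P' P'' : Over S}

/-- the inverse of `θ` -/
def θinv (P : Over S) (hP : IsLocalHomeomorph P.hom) (y : P.left) :
    St F n P y →+ St F n (base : Over S) (P.hom y) :=
  (AddEquiv.ofBijective _ (bijective_θ F n P hP y)).symm.toAddMonoidHom

lemma θ_θinv (hP : IsLocalHomeomorph P.hom) (y : P.left) (t : St F n P y) :
    θ F n P y (θinv F n P hP y t) = t :=
  (AddEquiv.ofBijective _ (bijective_θ F n P hP y)).apply_symm_apply t

lemma θinv_θ (hP : IsLocalHomeomorph P.hom) (y : P.left) (b : St F n (base : Over S) (P.hom y)) :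
    θinv F n P hP y (θ F n P y b) = b :=
  (AddEquiv.ofBijective _ (bijective_θ F n P hP y)).symm_apply_apply b

/-- transport along a map of points over the base -/
def castSt {s s' : S} (h : s = s') : St F n (base : Over S) s →+ St F n (base : Over S) s' := by
  subst h
  exact AddMonoidHom.id _

lemma castSt_rec {s s' : S} (h : s = s') (b : St F n (base : Over S) s) : castSt F n h b = h ▸ b := by
  subst h; rfl

lemma castSt_castSt {s s' s'' : S} (h : s = s') (h' : s' = s'') (b : St F n (base : Over S) s) :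
    castSt F n h' (castSt F n h b) = castSt F n (h.trans h') b := by
  subst h; subst h'; rfl

/-- pullback of families along a map of points over the base -/
def tr (hP' : IsLocalHomeomorph P'.hom) (σ : P.left → P'.left) (hσ : ∀ y, P'.hom (σ y) = P.hom y) :
    Fam F n P' →+ Fam F n P :=
  AddMonoidHom.mk' (fun c y => θ F n P y.1 (castSt F n (hσ y.1) (θinv F n P' hP' (σ y.1) (c ⟨σ y.1, trivial⟩))))
    fun a b => funext fun y => by
      show θ F n P y.1 (castSt F n (hσ y.1) (θinv F n P' hP' (σ y.1) (a ⟨σ y.1, trivial⟩ + b ⟨σ y.1, trivial⟩))) = _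
      rw [map_add, map_add, map_add]
      rfl

/-- pullback of families along a morphism -/
def fmap (g : P ⟶ P') : Fam F n P' ⟶ Fam F n P :=
  ((M₀ F).map g.op).f n

lemma fmap_apply (g : P ⟶ P') (c : Fam F n P') (y : (⊤ : Opens P.left)) :
    fmap F n g c y = stMap F n g y.1 (c ⟨g.left y.1, trivial⟩) := rfl

lemma hom_left (g : P ⟶ P') (y : P.left) : P'.hom (g.left y) = P.hom y :=
  ConcreteCategory.congr_hom (Over.w g) y

lemma fmap_eq_tr (hP' : IsLocalHomeomorph P'.hom) (g : P ⟶ P') (c : Fam F n P') :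
    fmap F n g c = tr F n hP' g.left (hom_left g) c := funext fun y => by
  show stMap F n g y.1 _ = θ F n P y.1 _
  rw [castSt_rec, ← stMap_θ F n g y.1 (hom_left g y.1).symm, θ_θinv]
  rfl

lemma tr_congr (hP' : IsLocalHomeomorph P'.hom) {σ σ' : P.left → P'.left}
    (hσ : ∀ y, P'.hom (σ y) = P.hom y) (hσ' : ∀ y, P'.hom (σ' y) = P.hom y) (e : ∀ y, σ y = σ' y) (c : Fam F n P') :
    tr F n hP' σ hσ c = tr F n hP' σ' hσ' c := by
  obtain rfl : σ = σ' := funext e
  rfl

lemma tr_tr (hP' : IsLocalHomeomorph P'.hom) (hP'' : IsLocalHomeomorph P''.hom)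
    (σ : P.left → P'.left) (hσ : ∀ y, P'.hom (σ y) = P.hom y)
    (τ : P'.left → P''.left) (hτ : ∀ y, P''.hom (τ y) = P'.hom y) (c : Fam F n P'') :
    tr F n hP' σ hσ (tr F n hP'' τ hτ c) =
      tr F n hP'' (fun y => τ (σ y)) (fun y => (hτ _).trans (hσ y)) c := funext fun y => by
  show θ F n P y.1 (castSt F n _ (θinv F n P' hP' (σ y.1) (θ F n P' (σ y.1) _))) = θ F n P y.1 _
  rw [θinv_θ, castSt_castSt]

lemma tr_id (hP : IsLocalHomeomorph P.hom) (c : Fam F n P) : tr F n hP id (fun _ => rfl) c = c :=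
  funext fun y => θ_θinv F n hP y.1 _

variable {X : TopCat.{u}} (f : X ⟶ S)

/-- the fibre products -/
abbrev pw (p : ℕ) : TopCat.{u} := widePullback S (fun _ : Fin (p + 1) => X) (fun _ => f)

lemma pw_ext {p : ℕ} (y y' : pw f p)
    (h : ∀ i, WidePullback.π (fun _ : Fin (p + 1) => f) i y = WidePullback.π (fun _ : Fin (p + 1) => f) i y') :
    y = y' :=
  Concrete.widePullback_ext' _ y y' h

lemma base_eq {p : ℕ} (y : pw f p) (i : Fin (p + 1)) :
    f (WidePullback.π (fun _ : Fin (p + 1) => f) i y) = WidePullback.base (fun _ : Fin (p + 1) => f) y :=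
  ConcreteCategory.congr_hom (WidePullback.π_arrow (fun _ : Fin (p + 1) => f) i) y

lemma π_lift {p : ℕ} {W : TopCat.{u}} (b : W ⟶ S) (g : Fin (p + 1) → (W ⟶ X)) (w : ∀ i, g i ≫ f = b)
    (i : Fin (p + 1)) (x : W) :
    WidePullback.π (fun _ : Fin (p + 1) => f) i (WidePullback.lift (arrows := fun _ => f) b g w x) = g i x :=
  ConcreteCategory.congr_hom (WidePullback.lift_π (fun _ : Fin (p + 1) => f) b g w i) x

lemma base_lift {p : ℕ} {W : TopCat.{u}} (b : W ⟶ S) (g : Fin (p + 1) → (W ⟶ X)) (w : ∀ i, g i ≫ f = b)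
    (x : W) :
    WidePullback.base (fun _ : Fin (p + 1) => f) (WidePullback.lift (arrows := fun _ => f) b g w x) = b x :=
  ConcreteCategory.congr_hom (WidePullback.lift_base (fun _ : Fin (p + 1) => f) b g w) x

/-- a tuple in a fibre as a morphism from the point -/
def mkHom {p : ℕ} (s : S) (x : Fin (p + 1) → X) (h : ∀ i, f (x i) = s) : TopCat.of PUnit.{u + 1} ⟶ pw f p :=
  WidePullback.lift (TopCat.ofHom (ContinuousMap.const _ s)) (fun i => TopCat.ofHom (ContinuousMap.const _ (x i)))
    (fun i => by ext; exact h i)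

/-- a tuple in a fibre as a point of the fibre product -/
def mkPt {p : ℕ} (s : S) (x : Fin (p + 1) → X) (h : ∀ i, f (x i) = s) : pw f p :=
  mkHom f s x h PUnit.unit

lemma π_mkPt {p : ℕ} (s : S) (x : Fin (p + 1) → X) (h : ∀ i, f (x i) = s) (i : Fin (p + 1)) :
    WidePullback.π (fun _ : Fin (p + 1) => f) i (mkPt f s x h) = x i :=
  π_lift f _ _ _ i _

lemma base_mkPt {p : ℕ} (s : S) (x : Fin (p + 1) → X) (h : ∀ i, f (x i) = s) :
    WidePullback.base (fun _ : Fin (p + 1) => f) (mkPt f s x h) = s :=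
  (base_eq f _ 0).symm.trans ((congrArg f (π_mkPt f s x h 0)).trans (h 0))

/-- the base of a fibre product of local homeomorphisms is a local homeomorphism -/
theorem isLocalHomeomorph_base (hf : IsLocalHomeomorph f) (p : ℕ) :
    IsLocalHomeomorph (WidePullback.base (fun _ : Fin (p + 1) => f)) := by
  classical
  refine IsLocalHomeomorph.mk _ fun y => ?_
  let π := fun i => WidePullback.π (fun _ : Fin (p + 1) => f) i
  let b := WidePullback.base (fun _ : Fin (p + 1) => f)
  choose e hye he using fun i => hf (π i y)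
  let U : Set S := ⋂ i, (e i).target
  have hU : IsOpen U := isOpen_iInter_of_finite fun i => (e i).open_target
  let V : Set (pw f p) := b ⁻¹' U ∩ ⋂ i, π i ⁻¹' (e i).source
  have hV : IsOpen V := (hU.preimage b.hom.continuous).inter
    (isOpen_iInter_of_finite fun i => (e i).open_source.preimage (π i).hom.continuous)
  have hmem : ∀ s : U, ∀ i, s.1 ∈ (e i).target := fun s i => Set.mem_iInter.1 s.2 i
  have hfe : ∀ (s : U) i, f ((e i).symm s.1) = s.1 := fun s i => by
    rw [he i]
    exact (e i).right_inv (hmem s i)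
  let T : TopCat.of U ⟶ pw f p := WidePullback.lift (TopCat.ofHom ⟨Subtype.val, continuous_subtype_val⟩)
    (fun i => TopCat.ofHom ⟨fun s => (e i).symm s.1,
      (e i).continuousOn_symm.comp_continuous continuous_subtype_val (fun s => hmem s i)⟩)
    (fun i => by ext s; exact hfe s i)
  have hTπ : ∀ (s : U) i, π i (T s) = (e i).symm s.1 := fun s i => by
    exact π_lift f (W := TopCat.of U) _ _ _ i s
  have hTb : ∀ s : U, b (T s) = s.1 := fun s => by
    exact base_lift f (W := TopCat.of U) _ _ _ s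
  let inv : S → pw f p := fun s => if h : s ∈ U then T ⟨s, h⟩ else y
  have hinv : ∀ (s : S) (h : s ∈ U), inv s = T ⟨s, h⟩ := fun s h => dif_pos h
  refine ⟨{
    toFun := b
    invFun := inv
    source := V
    target := U
    map_source' := fun z hz => hz.1
    map_target' := fun s hs => by
      rw [hinv s hs]
      refine ⟨by show b (T ⟨s, hs⟩) ∈ U; rw [hTb]; exact hs, Set.mem_iInter.2 fun i => ?_⟩
      show π i (T ⟨s, hs⟩) ∈ (e i).source
      rw [hTπ]
      exact (e i).map_target (hmem ⟨s, hs⟩ i)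
    left_inv' := fun z hz => by
      rw [hinv _ hz.1]
      refine pw_ext f _ _ fun i => (hTπ _ i).trans ?_
      show (e i).symm (b z) = π i z
      rw [← base_eq f z i, he i, (e i).left_inv (Set.mem_iInter.1 hz.2 i)]
    right_inv' := fun s hs => by rw [hinv s hs]; exact hTb ⟨s, hs⟩
    open_source := hV
    open_target := hU
    continuousOn_toFun := b.hom.continuous.continuousOn
    continuousOn_invFun := continuousOn_iff_continuous_domRestrict.2 (by
      have : U.domRestrict inv = fun s => T s := funext fun s => hinv s.1 s.2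
      rw [this]
      exact T.hom.continuous) }, ⟨?_, Set.mem_iInter.2 hye⟩, fun z _ => rfl⟩
  refine Set.mem_iInter.2 fun i => ?_
  show b y ∈ (e i).target
  rw [← base_eq f y i, he i]
  exact (e i).map_source (hye i)

lemma π_δ {p : ℕ} (i : Fin (p + 2)) (y : pw f (p + 1)) (j : Fin (p + 1)) :
    WidePullback.π (fun _ : Fin (p + 1) => f) j (((nerve f).map (SimplexCategory.δ i).op).left y) =
      WidePullback.π (fun _ : Fin (p + 2) => f) (i.succAbove j) y :=
  π_lift f _ _ _ j y

/-- A surjective local homeomorphism makes the rows exact. -/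
theorem augExact_of_localHomeomorph (hf : IsLocalHomeomorph f) (hsurj : Function.Surjective f) :
    AugExact ((nerve f).rightOp ⋙ M₀ F ⋙ HomologicalComplex.eval _ (ComplexShape.up ℕ) n)
      (fmap F n (Over.homMk (V := base) (WidePullback.base (fun _ : Fin 1 => f))
        (Category.comp_id _) : (nerve f).obj (op ⦋0⦌) ⟶ base)) := by
  have hP : ∀ p, IsLocalHomeomorph ((nerve f).obj (op ⦋p⦌)).hom := fun p => isLocalHomeomorph_base f hf p
  have hB : IsLocalHomeomorph (base : Over S).hom :=
    show IsLocalHomeomorph (id : S → S) from (Homeomorph.refl S).isLocalHomeomorph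
  choose σ hσ using hsurj
  let t : ∀ p, ((nerve f).obj (op ⦋p⦌)).left → ((nerve f).obj (op ⦋p + 1⦌)).left := fun p y =>
    mkPt f (WidePullback.base (fun _ : Fin (p + 1) => f) y)
      (Fin.cons (σ (WidePullback.base (fun _ : Fin (p + 1) => f) y)) fun i => WidePullback.π (fun _ : Fin (p + 1) => f) i y)
      (fun i => by
        induction i using Fin.cases with
        | zero => simp [hσ]
        | succ i => simpa using base_eq f y i)
  have ht : ∀ p y, ((nerve f).obj (op ⦋p + 1⦌)).hom (t p y) = ((nerve f).obj (op ⦋p⦌)).hom y := fun p y =>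
    base_mkPt f _ _ _
  let t' : (base : Over S).left → ((nerve f).obj (op ⦋0⦌)).left := fun s => mkPt f s (fun _ => σ s) (fun _ => hσ s)
  have ht' : ∀ s, ((nerve f).obj (op ⦋0⦌)).hom (t' s) = (base : Over S).hom s := fun s => base_mkPt f _ _ _
  refine augExact_of_extraDegeneracy _ _ (tr F n (hP 0) t' ht') (fun p => tr F n (hP (p + 1)) (t p) (ht p))
    (fun c => ?_) (fun c => ?_) (fun p c => ?_) (fun p i c => ?_)
  · refine (congrArg (tr F n (hP 0) t' ht') (fmap_eq_tr F n hB _ c)).trans ?_
    rw [tr_tr]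
    exact (tr_congr F n hB _ (fun _ => rfl) (fun s => base_mkPt f _ _ _) c).trans (tr_id F n hB c)
  · show tr F n (hP 1) (t 0) (ht 0) (fmap F n ((nerve f).map (SimplexCategory.δ 1).op) c) = _
    refine ((congrArg (tr F n (hP 1) (t 0) (ht 0)) (fmap_eq_tr F n (hP 0) _ c)).trans ?_).trans
      (fmap_eq_tr F n hB _ _).symm
    refine ((tr_tr F n (hP 1) (hP 0) _ _ _ _ c).trans ?_).trans (tr_tr F n hB (hP 0) _ _ _ _ c).symm
    refine tr_congr F n (hP 0) _ _ (fun y => pw_ext f _ _ fun j => ?_) c
    obtain rfl := Fin.fin_one_eq_zero j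
    rw [π_δ]
    exact (π_mkPt f _ _ _ _).trans (by simp [t', π_mkPt]; rfl)
  · show tr F n (hP (p + 1)) (t p) (ht p) (fmap F n ((nerve f).map (SimplexCategory.δ 0).op) c) = _
    refine (congrArg (tr F n (hP (p + 1)) (t p) (ht p)) (fmap_eq_tr F n (hP p) _ c)).trans ?_
    refine (tr_tr F n (hP (p + 1)) (hP p) _ _ _ _ c).trans ?_
    refine (tr_congr F n (hP p) _ (fun _ => rfl) (fun y => pw_ext f _ _ fun j => ?_) c).trans (tr_id F n (hP p) c)
    rw [π_δ]
    exact (π_mkPt f _ _ _ _).trans (by simp)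
  · show tr F n (hP (p + 2)) (t (p + 1)) (ht (p + 1)) (fmap F n ((nerve f).map (SimplexCategory.δ i.succ).op) c) =
      fmap F n ((nerve f).map (SimplexCategory.δ i).op) _
    refine ((congrArg (tr F n (hP (p + 2)) (t (p + 1)) (ht (p + 1))) (fmap_eq_tr F n (hP (p + 1)) _ c)).trans ?_).trans
      (fmap_eq_tr F n (hP p) _ _).symm
    refine ((tr_tr F n (hP (p + 2)) (hP (p + 1)) _ _ _ _ c).trans ?_).trans (tr_tr F n (hP p) (hP (p + 1)) _ _ _ _ c).symm
    refine tr_congr F n (hP (p + 1)) _ _ (fun y => pw_ext f _ _ fun j => ?_) c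
    rw [π_δ]
    refine (π_mkPt f _ _ _ _).trans ?_
    refine Eq.trans ?_ (π_mkPt f _ _ _ _).symm
    induction j using Fin.cases with
    | zero =>
      simp only [Fin.succ_succAbove_zero, Fin.cons_zero]
      exact congrArg σ (hom_left ((nerve f).map (SimplexCategory.δ i).op) y).symm
    | succ j =>
      simp only [Fin.succ_succAbove_succ, Fin.cons_succ]
      exact (π_δ f i y j).symm

/-- transport of exactness along an isomorphism -/
theorem AugExact.of_iso {A A' : CosimplicialObject AddCommGrpCat.{u}} (e : A ≅ A') {B B' : AddCommGrpCat.{u}}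
    (eB : B ≅ B') {ε : B ⟶ A.obj ⦋0⦌} {ε' : B' ⟶ A'.obj ⦋0⦌} (h : ε ≫ e.hom.app _ = eB.hom ≫ ε')
    (hA : AugExact A' ε') : AugExact A ε := by
  have hd : ∀ p (x : A.obj ⦋p⦌), e.hom.app ⦋p + 1⦌ (AlternatingCofaceMapComplex.objD A p x) =
      AlternatingCofaceMapComplex.objD A' p (e.hom.app ⦋p⦌ x) := fun p x => by
    rw [objD_apply, objD_apply, map_sum]
    refine Finset.sum_congr rfl fun i _ => ?_
    rw [map_zsmul]
    exact congrArg _ (ConcreteCategory.congr_hom (e.hom.naturality (SimplexCategory.δ i)) x)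
  have hinj : ∀ p, Function.Injective (e.hom.app ⦋p⦌) := fun p =>
    (ConcreteCategory.bijective_of_isIso (e.hom.app ⦋p⦌)).1
  have hs : ∀ p, Function.Surjective (e.hom.app ⦋p⦌) := fun p =>
    (ConcreteCategory.bijective_of_isIso (e.hom.app ⦋p⦌)).2
  have hb := ConcreteCategory.bijective_of_isIso eB.hom
  have hε : ∀ b, e.hom.app ⦋0⦌ (ε b) = ε' (eB.hom b) := fun b => ConcreteCategory.congr_hom h b
  refine ⟨fun a b hab => hb.1 (hA.inj (by rw [← hε, ← hε, hab])), fun x hx => ?_, fun p x hx => ?_⟩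
  · obtain ⟨y, hy⟩ := hA.exact₀ (e.hom.app _ x) (by rw [← hd, hx, map_zero])
    obtain ⟨y, rfl⟩ := hb.2 y
    exact ⟨y, hinj 0 ((hε y).trans hy)⟩
  · obtain ⟨w, hw⟩ := hA.exact p (e.hom.app _ x) (by rw [← hd, hx, map_zero])
    obtain ⟨w, rfl⟩ := hs p w
    exact ⟨w, hinj (p + 1) ((hd p w).trans hw)⟩

theorem augExact_nerveCx (hf : IsLocalHomeomorph f) (hsurj : Function.Surjective f) (q : ℤ) :
    AugExact (evalDeg (nerveCx f F) q) ((nerveAug f F).f q) := by
  by_cases hq : q < 0
  · have hz : ∀ P : (Over S)ᵒᵖ, Subsingleton (((M F).obj P).X q) := fun P =>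
      haveI := isStrictlyGE_M F P
      AddCommGrpCat.subsingleton_of_isZero (CochainComplex.isZero_of_isStrictlyGE _ 0 q hq)
    refine ⟨fun a b _ => (hz _).elim a b, fun x _ => ⟨0, ?_⟩, fun p x _ => ⟨0, ?_⟩⟩
    · exact (hz (op ((nerve f).obj (op ⦋0⦌)))).elim _ _
    · exact (hz (op ((nerve f).obj (op ⦋p + 1⦌)))).elim _ _
  · obtain ⟨m, rfl⟩ := Int.eq_ofNat_of_zero_le (not_lt.1 hq)
    exact AugExact.of_iso (Functor.isoWhiskerLeft (nerve f).rightOp (MEvalIso F m)) ((MEvalIso F m).app _)
      ((MEvalIso F m).hom.naturality _) (augExact_of_localHomeomorph F m f hf hsurj)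

end Groth.Agent.Descent
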