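import Groth.Agent.Descent.Cosimp
import Groth.Agent.Godement.Functor
import Mathlib.AlgebraicTopology.ExtraDegeneracy
import Mathlib.AlgebraicTopology.CechNerve
import Mathlib.Topology.Category.TopCat.Limits.Basic

/-! # The nerve of a map as a simplicial space over the base, and descent spectral sequences -/

set_option autoImplicit false
set_option linter.style.haveILetI false

noncomputable section

universe u

open CategoryTheory CategoryTheory.Limits Opposite Simplicial

namespace Groth.Agent.Descent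

variable {X S : TopCat.{u}} (f : X ⟶ S)

/-- the nerve of `f` as a simplicial space over `S` -/
def nerve : SimplicialObject (Over S) where
  obj n := Over.mk (WidePullback.base (fun _ : Fin (n.unop.len + 1) => f))
  map g := Over.homMk ((Arrow.mk f).cechNerve.map g) (by exact WidePullback.lift_base ..)
  map_id n := Over.OverMorphism.ext ((Arrow.mk f).cechNerve.map_id n)
  map_comp g g' := Over.OverMorphism.ext ((Arrow.mk f).cechNerve.map_comp g g')

variable (F : CohTop.Ab S)

/-- the cosimplicial complex of the nerve -/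
def nerveCx : CosimplicialObject (CochainComplex AddCommGrpCat.{u} ℤ) :=
  (nerve f).rightOp ⋙ Godement.M F

/-- the augmentation -/
def nerveAug : (Godement.M F).obj (op (Over.mk (𝟙 S))) ⟶ (nerveCx f F).obj ⦋0⦌ :=
  (Godement.M F).map (Over.homMk (V := Over.mk (𝟙 S)) (WidePullback.base (fun _ : Fin 1 => f))
    (Category.comp_id _) : (nerve f).obj (op ⦋0⦌) ⟶ Over.mk (𝟙 S)).op

lemma nerveAug_δ (i : Fin 2) :
    nerveAug f F ≫ (nerveCx f F).δ i = (Godement.M F).map
      (Over.homMk (V := Over.mk (𝟙 S)) (WidePullback.base (fun _ : Fin 2 => f))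
        (Category.comp_id _) : (nerve f).obj (op ⦋1⦌) ⟶ Over.mk (𝟙 S)).op := by
  refine ((Godement.M F).map_comp _ _).symm.trans (congrArg (Godement.M F).map ?_)
  refine congrArg Quiver.Hom.op (Over.OverMorphism.ext ?_)
  exact WidePullback.lift_base ..

/-- The descent spectral sequence, given exactness of the rows. -/
theorem exists_nerve_spectralSequence (hex : ∀ q, AugExact (evalDeg (nerveCx f F) q) ((nerveAug f F).f q)) :
    ∃ (E : CohomologicalSpectralSequence AddCommGrpCat.{u} 1)
      (a : SpSeq.Abutment E (fun n : ℤ =>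
        if 0 ≤ n then AddCommGrpCat.of (CohTop.H F n.toNat) else AddCommGrpCat.of PUnit.{u + 1})),
      (∀ n, a.IsFinite n) ∧ SpSeq.IsBounded E ∧
      ∀ p q : ℤ, Nonempty ((E.page 1 le_rfl).X (p, q) ≅
        (if 0 ≤ p ∧ 0 ≤ q then
          AddCommGrpCat.of (CohTop.H ((CohTop.pull
            (WidePullback.base (fun _ : Fin (p.toNat + 1) => f) :
              widePullback S (fun _ : Fin (p.toNat + 1) => X) (fun _ => f) ⟶ S)).obj F) q.toNat)
         else AddCommGrpCat.of PUnit.{u + 1})) := by
  refine exists_spectralSequence (nerveCx f F) (fun p => Godement.isStrictlyGE_M F _) (nerveAug f F)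
    ((nerveAug_δ f F 0).trans (nerveAug_δ f F 1).symm) hex _ (fun n => ?_)
    (fun p q => AddCommGrpCat.of (CohTop.H ((CohTop.pull
      (WidePullback.base (fun _ : Fin (p + 1) => f) :
        widePullback S (fun _ : Fin (p + 1) => X) (fun _ => f) ⟶ S)).obj F) q))
    (fun p q => Godement.nonempty_homology_M_iso F _ q)
    (AddCommGrpCat.of PUnit.{u + 1}) (AddCommGrpCat.isZero_of_subsingleton _)
  by_cases hn : 0 ≤ n
  · rw [if_pos hn]
    obtain ⟨n, rfl⟩ := Int.eq_ofNat_of_zero_le hn
    exact Godement.nonempty_homology_M_id_iso F n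
  · rw [if_neg hn]
    haveI := Godement.isStrictlyGE_M F (op (Over.mk (𝟙 S)))
    refine ⟨IsZero.iso ?_ (AddCommGrpCat.isZero_of_subsingleton _)⟩
    exact (ShortComplex.exact_iff_isZero_homology _).1
      (ShortComplex.exact_of_isZero_X₂ _ (CochainComplex.isZero_of_isStrictlyGE ((Godement.M F).obj (op (Over.mk (𝟙 S)))) 0 n (by omega) :))

section Section

variable (s : S ⟶ X) (hs : s ≫ f = 𝟙 S)

open Arrow.AugmentedCechNerve

/-- the extra degeneracies over `S` -/
def sOver (p : ℕ) : (nerve f).obj (op ⦋p⦌) ⟶ (nerve f).obj (op ⦋p + 1⦌) :=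
  Over.homMk (ExtraDegeneracy.s (Arrow.mk f) ⟨s, hs⟩ p) (by exact ExtraDegeneracy.s_comp_base _ _ p)

/-- the section over `S` -/
def sOver' : Over.mk (𝟙 S) ⟶ (nerve f).obj (op ⦋0⦌) :=
  Over.homMk ((extraDegeneracy (Arrow.mk f) ⟨s, hs⟩).s') (by
    exact (extraDegeneracy (Arrow.mk f) ⟨s, hs⟩).s'_comp_ε)

include hs in
/-- A section makes the rows exact. -/
theorem augExact_of_section (q : ℤ) : AugExact (evalDeg (nerveCx f F) q) ((nerveAug f F).f q) := by
  let ed := extraDegeneracy (Arrow.mk f) ⟨s, hs⟩
  let T := Godement.M F ⋙ HomologicalComplex.eval _ (ComplexShape.up ℤ) q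
  have key : ∀ {a b c : (Over S)} (u : a ⟶ b) (v : b ⟶ c) (x : T.obj (op c)),
      T.map u.op (T.map v.op x) = T.map (u ≫ v).op x := fun u v x =>
    (ConcreteCategory.congr_hom (T.map_comp v.op u.op) x).symm
  have keyid : ∀ (a : Over S) (x : T.obj (op a)), T.map (𝟙 a).op x = x := fun a x =>
    ConcreteCategory.congr_hom (T.map_id (op a)) x
  refine augExact_of_extraDegeneracy _ _ ((T.map (sOver' f s hs).op).hom)
    (fun p => (T.map (sOver f s hs p).op).hom) (fun y => ?_) (fun x => ?_) (fun p x => ?_) (fun p i x => ?_)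
  · refine (key _ _ y).trans ((congrArg (fun m => T.map (Quiver.Hom.op m) y) ?_).trans (keyid _ y))
    exact Over.OverMorphism.ext ed.s'_comp_ε
  · refine (key _ _ x).trans ((congrArg (fun m => T.map (Quiver.Hom.op m) x) ?_).trans (key _ _ x).symm)
    exact Over.OverMorphism.ext ed.s₀_comp_δ₁
  · refine (key _ _ x).trans ((congrArg (fun m => T.map (Quiver.Hom.op m) x) ?_).trans (keyid _ x))
    exact Over.OverMorphism.ext (ed.s_comp_δ₀ p)
  · refine (key _ _ x).trans ((congrArg (fun m => T.map (Quiver.Hom.op m) x) ?_).trans (key _ _ x).symm)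
    exact Over.OverMorphism.ext (ed.s_comp_δ p i)

end Section

end Groth.Agent.Descent
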