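import Groth.Agent.Descent.ProperAssembly
import Groth.Agent.Descent.LocalHomeo

/-! # Descent along proper surjective maps -/

set_option autoImplicit false
set_option linter.style.haveILetI false

noncomputable section

universe u

open CategoryTheory CategoryTheory.Limits TopologicalSpace Opposite Simplicial AlgebraicTopology
open scoped Topology

namespace Groth.Agent.Descent.Rel

open Godement

variable {X S : TopCat.{u}} (f : X ⟶ S)

lemma nhds_pw {p : ℕ} (y : pw f p) (F : Filter (pw f p))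
    (h : ∀ i, Filter.Tendsto (WidePullback.π (fun _ : Fin (p + 1) => f) i) F
      (𝓝 (WidePullback.π (fun _ : Fin (p + 1) => f) i y))) : F ≤ 𝓝 y := by
  have e := TopCat.induced_of_isLimit _ (limit.isLimit (WidePullbackShape.wideCospan S (fun _ : Fin (p + 1) => X) fun _ => f))
  rw [show 𝓝 y = @nhds _ (limit.cone (WidePullbackShape.wideCospan S (fun _ : Fin (p + 1) => X) fun _ => f)).pt.str y from rfl,
    e, nhds_iInf]
  refine le_iInf fun j => ?_
  rw [nhds_induced, ← Filter.map_le_iff_le_comap]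
  rcases j with _ | i
  · have hb : (WidePullback.base (fun _ : Fin (p + 1) => f) : pw f p → S) =
        f ∘ WidePullback.π (fun _ : Fin (p + 1) => f) 0 := funext fun z => (base_eq f z 0).symm
    show Filter.Tendsto (WidePullback.base (fun _ : Fin (p + 1) => f)) F (𝓝 (WidePullback.base (fun _ : Fin (p + 1) => f) y))
    rw [hb]
    exact (f.hom.continuous.tendsto _).comp (h 0)
  · exact h i

lemma isProperMap_base (hf : IsProperMap f) (p : ℕ) :
    IsProperMap (WidePullback.base (fun _ : Fin (p + 1) => f)) := by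
  rw [isProperMap_iff_ultrafilter]
  refine ⟨(WidePullback.base (fun _ : Fin (p + 1) => f)).hom.continuous, fun 𝒰 s hs => ?_⟩
  have hx : ∀ i, ∃ x, f x = s ∧ ((𝒰.map (WidePullback.π (fun _ : Fin (p + 1) => f) i) : Ultrafilter X) : Filter X) ≤ 𝓝 x := fun i => by
    refine (isProperMap_iff_ultrafilter.1 hf).2 (Filter.tendsto_map'_iff.2 ?_)
    exact hs.congr fun z => (base_eq f z i).symm
  choose x hxs hx using hx
  refine ⟨mkPt f s x hxs, base_mkPt f s x hxs, nhds_pw f _ _ fun i => ?_⟩
  rw [π_mkPt]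
  exact hx i

lemma sep_base' (hs : ∀ x x' : X, f x = f x' → x ≠ x' → ∃ U V : Set X, IsOpen U ∧ IsOpen V ∧ x ∈ U ∧ x' ∈ V ∧ Disjoint U V)
    (p : ℕ) (y y' : pw f p)
    (h : WidePullback.base (fun _ : Fin (p + 1) => f) y = WidePullback.base (fun _ : Fin (p + 1) => f) y') (hne : y ≠ y') :
    ∃ U V : Set (pw f p), IsOpen U ∧ IsOpen V ∧ y ∈ U ∧ y' ∈ V ∧ Disjoint U V := by
  obtain ⟨i, hi⟩ : ∃ i, WidePullback.π (fun _ : Fin (p + 1) => f) i y ≠ WidePullback.π (fun _ : Fin (p + 1) => f) i y' := by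
    by_contra h'
    push Not at h'
    exact hne (pw_ext f y y' h')
  obtain ⟨U, V, hU, hV, hy, hy', hd⟩ := hs _ _ ((base_eq f y i).trans (h.trans (base_eq f y' i).symm)) hi
  exact ⟨_, _, hU.preimage (WidePullback.π (fun _ : Fin (p + 1) => f) i).hom.continuous,
    hV.preimage (WidePullback.π (fun _ : Fin (p + 1) => f) i).hom.continuous, hy, hy', hd.preimage _⟩

/-- the nerve of a proper separated map has proper separated terms -/
theorem properTerms_nerve (hf : IsProperMap f)
    (hs : ∀ x x' : X, f x = f x' → x ≠ x' → ∃ U V : Set X, IsOpen U ∧ IsOpen V ∧ x ∈ U ∧ x' ∈ V ∧ Disjoint U V) :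
    ProperTerms (nerve f) :=
  ⟨fun p => isProperMap_base f hf p, fun p => sep_base' f hs p⟩

variable {f} (s : S) (x₀ : X) (hx₀ : f x₀ = s)

/-- adding the chosen point as first coordinate -/
def degLift (p : ℕ) : (fibObj s ((nerve f).obj (op ⦋p⦌))).left ⟶ pw f (p + 1) :=
  WidePullback.lift (TopCat.ofHom (ContinuousMap.const _ s))
    (Fin.cons (TopCat.ofHom (ContinuousMap.const _ x₀))
      fun i => (fibι s ((nerve f).obj (op ⦋p⦌))).left ≫ WidePullback.π (fun _ : Fin (p + 1) => f) i)
    (fun i => by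
      induction i using Fin.cases with
      | zero => ext; exact hx₀
      | succ i =>
        ext y
        exact (base_eq f _ i).trans (fibι_mem s _ y))

lemma base_degLift (p : ℕ) (y : (fibObj s ((nerve f).obj (op ⦋p⦌))).left) :
    WidePullback.base (fun _ : Fin (p + 2) => f) (degLift s x₀ hx₀ p y) = s := by
  exact base_lift f (W := (fibObj s ((nerve f).obj (op ⦋p⦌))).left) _ _ _ y

/-- the extra degeneracies of a fibre -/
def deg (p : ℕ) : fibObj s ((nerve f).obj (op ⦋p⦌)) ⟶ fibObj s ((nerve f).obj (op ⦋p + 1⦌)) :=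
  Over.homMk (TopCat.ofHom ⟨fun y => ⟨degLift s x₀ hx₀ p y, base_degLift s x₀ hx₀ p y⟩,
    (degLift s x₀ hx₀ p).hom.continuous.subtype_mk _⟩)
    (by ext y; exact (base_degLift s x₀ hx₀ p y).trans (fibι_mem s _ y).symm)

/-- the section over the point -/
def degLift' : (fibObj s (Descent.base : Over S)).left ⟶ pw f 0 :=
  WidePullback.lift (TopCat.ofHom (ContinuousMap.const _ s)) (fun _ => TopCat.ofHom (ContinuousMap.const _ x₀))
    (fun _ => by ext; exact hx₀)

lemma base_degLift' (y : (fibObj s (Descent.base : Over S)).left) :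
    WidePullback.base (fun _ : Fin 1 => f) (degLift' s x₀ hx₀ y) = s := by
  exact base_lift f (W := (fibObj s (Descent.base : Over S)).left) _ _ _ y

/-- the section of the augmentation of a fibre -/
def deg' : fibObj s (Descent.base : Over S) ⟶ fibObj s ((nerve f).obj (op ⦋0⦌)) :=
  Over.homMk (TopCat.ofHom ⟨fun y => ⟨degLift' s x₀ hx₀ y, base_degLift' s x₀ hx₀ y⟩,
    (degLift' s x₀ hx₀).hom.continuous.subtype_mk _⟩)
    (by ext y; exact (base_degLift' s x₀ hx₀ y).trans (fibι_mem s _ y).symm)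

lemma π_deg_zero (p : ℕ) (y : (fibObj s ((nerve f).obj (op ⦋p⦌))).left) :
    WidePullback.π (fun _ : Fin (p + 2) => f) 0 ((deg s x₀ hx₀ p).left y).1 = x₀ :=
  π_lift f (W := (fibObj s ((nerve f).obj (op ⦋p⦌))).left) _ _ _ 0 y

lemma π_deg_succ (p : ℕ) (y : (fibObj s ((nerve f).obj (op ⦋p⦌))).left) (i : Fin (p + 1)) :
    WidePullback.π (fun _ : Fin (p + 2) => f) i.succ ((deg s x₀ hx₀ p).left y).1 =
      WidePullback.π (fun _ : Fin (p + 1) => f) i y.1 :=
  π_lift f (W := (fibObj s ((nerve f).obj (op ⦋p⦌))).left) _ _ _ i.succ y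

lemma π_deg' (y : (fibObj s (Descent.base : Over S)).left) (i : Fin 1) :
    WidePullback.π (fun _ : Fin 1 => f) i ((deg' s x₀ hx₀).left y).1 = x₀ :=
  π_lift f (W := (fibObj s (Descent.base : Over S)).left) _ _ _ i y

variable (F : CohTop.Ab S)

include hx₀ in
/-- the rows over a nonempty fibre are exact -/
theorem augExact_fib (q : ℤ) :
    AugExact (evalDeg ((nerve f).rightOp ⋙ MZ F s) q) ((augT (nerve f) (MZ F s)).f q) := by
  let T := (M₀ F ⋙ ComplexShape.embeddingUpNat.extendFunctor AddCommGrpCat.{u}) ⋙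
    HomologicalComplex.eval _ (ComplexShape.up ℤ) q
  have key : ∀ {a b c : (Over S)} (u : a ⟶ b) (v : b ⟶ c) (x : T.obj (op c)),
      T.map u.op (T.map v.op x) = T.map (u ≫ v).op x := fun u v x =>
    (ConcreteCategory.congr_hom (T.map_comp v.op u.op) x).symm
  have keyid : ∀ (a : Over S) (x : T.obj (op a)), T.map (𝟙 a).op x = x := fun a x =>
    ConcreteCategory.congr_hom (T.map_id (op a)) x
  refine augExact_of_extraDegeneracy _ _ ((T.map (deg' s x₀ hx₀).op).hom)
    (fun p => (T.map (deg s x₀ hx₀ p).op).hom) (fun y => ?_) (fun x => ?_) (fun p x => ?_) (fun p i x => ?_)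
  · refine (key _ (fibMap s (toBase _)) y).trans
      ((congrArg (fun m => T.map (Quiver.Hom.op m) y) ?_).trans (keyid _ y))
    refine Over.OverMorphism.ext ?_
    ext z
    refine Subtype.ext ?_
    exact ((fibι_mem s (Descent.base : Over S) ((deg' s x₀ hx₀ ≫ fibMap s (toBase ((nerve f).obj (op ⦋0⦌)))).left z)).trans (fibι_mem s (Descent.base : Over S) z).symm :)
  · refine (key _ (fibMap s ((nerve f).map (SimplexCategory.δ 1).op)) x).trans
      ((congrArg (fun m => T.map (Quiver.Hom.op m) x) ?_).trans (key (fibMap s (toBase _)) _ x).symm)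
    refine Over.OverMorphism.ext ?_
    ext z
    refine Subtype.ext (pw_ext f _ _ fun j => ?_)
    obtain rfl := Fin.fin_one_eq_zero j
    refine (π_δ f 1 _ 0).trans ((π_deg_zero s x₀ hx₀ 0 z).trans (π_deg' s x₀ hx₀ _ 0).symm)
  · refine (key _ (fibMap s ((nerve f).map (SimplexCategory.δ 0).op)) x).trans
      ((congrArg (fun m => T.map (Quiver.Hom.op m) x) ?_).trans (keyid _ x))
    refine Over.OverMorphism.ext ?_
    ext z
    refine Subtype.ext (pw_ext f _ _ fun j => ?_)
    exact (π_δ f 0 _ j).trans (by rw [Fin.zero_succAbove]; exact π_deg_succ s x₀ hx₀ p z j)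
  · refine (key _ (fibMap s ((nerve f).map (SimplexCategory.δ i.succ).op)) x).trans
      ((congrArg (fun m => T.map (Quiver.Hom.op m) x) ?_).trans
        (key (fibMap s ((nerve f).map (SimplexCategory.δ i).op)) _ x).symm)
    refine Over.OverMorphism.ext ?_
    ext z
    refine Subtype.ext (pw_ext f _ _ fun j => ?_)
    refine (π_δ f i.succ _ j).trans ?_
    induction j using Fin.cases with
    | zero =>
      rw [Fin.succ_succAbove_zero]
      exact (π_deg_zero s x₀ hx₀ _ _).trans (π_deg_zero s x₀ hx₀ _ _).symm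
    | succ j =>
      rw [Fin.succ_succAbove_succ]
      exact (π_deg_succ s x₀ hx₀ _ _ _).trans ((π_δ f i z.1 j).symm.trans
        (π_deg_succ s x₀ hx₀ p ((fibMap s ((nerve f).map (SimplexCategory.δ i).op)).left z) j).symm)

/-- Descent along a proper surjective map. -/
theorem exists_spectralSequence_nerve (hf : IsProperMap f)
    (hs : ∀ x x' : X, f x = f x' → x ≠ x' → ∃ U V : Set X, IsOpen U ∧ IsOpen V ∧ x ∈ U ∧ x' ∈ V ∧ Disjoint U V)
    (hsurj : Function.Surjective f) :
    ∃ (E : CohomologicalSpectralSequence AddCommGrpCat.{u} 1)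
      (a : SpSeq.Abutment E (fun n : ℤ =>
        if 0 ≤ n then AddCommGrpCat.of (CohTop.H F n.toNat) else AddCommGrpCat.of PUnit.{u + 1})),
      (∀ n, a.IsFinite n) ∧ SpSeq.IsBounded E ∧
      ∀ p q : ℤ, Nonempty ((E.page 1 le_rfl).X (p, q) ≅
        (if 0 ≤ p ∧ 0 ≤ q then
          AddCommGrpCat.of (CohTop.H ((CohTop.pull
            (WidePullback.base (fun _ : Fin (p.toNat + 1) => f) :
              widePullback S (fun _ : Fin (p.toNat + 1) => X) (fun _ => f) ⟶ S)).obj F) q.toNat)
         else AddCommGrpCat.of PUnit.{u + 1})) :=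
  exists_spectralSequence_of_proper F (properTerms_nerve f hf hs) fun s q =>
    augExact_fib s (hsurj s).choose (hsurj s).choose_spec F q

end Groth.Agent.Descent.Rel
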