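import Groth.Agent.Descent.Relative
import Groth.Agent.Descent.Nerve
import Groth.Agent.ColSS.Approx
import Groth.Agent.ColSS.AugIso
import Groth.Agent.SoftSheaf.FlasqueExact
import Mathlib.Topology.Sheaves.SheafCondition.UniqueGluing

/-! # Descent along simplicial spaces proper over the base -/

set_option autoImplicit false
set_option linter.style.haveILetI false

noncomputable section

universe u

open CategoryTheory CategoryTheory.Limits TopologicalSpace Opposite Simplicial AlgebraicTopology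

namespace Groth.Agent.Descent.Rel

open Godement SoftSheaf

variable {S : TopCat.{u}}

/-- the unique map to the base -/
def toBase (P : Over S) : P ⟶ Descent.base := Over.homMk P.hom (Category.comp_id _)

lemma toBase_unique {P : Over S} (g : P ⟶ Descent.base) : g = toBase P :=
  Over.OverMorphism.ext ((Category.comp_id _).symm.trans (Over.w g))

section Cols

variable (N : SimplicialObject (Over S)) (T : (Over S)ᵒᵖ ⥤ CochainComplex AddCommGrpCat.{u} ℤ)
  (hT : ∀ P, (T.obj P).IsStrictlyGE 0)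

/-- the augmentation -/
def augT : T.obj (op Descent.base) ⟶ (N.rightOp ⋙ T).obj ⦋0⦌ := T.map (toBase (N.obj (op ⦋0⦌))).op

lemma augT_δ : augT N T ≫ (cols (N.rightOp ⋙ T) fun _ => hT _).dh 0 = 0 := by
  have h : ∀ i : Fin 2, augT N T ≫ CosimplicialObject.δ (N.rightOp ⋙ T) i =
      T.map (toBase (N.obj (op ⦋1⦌))).op := fun i => by
    refine (T.map_comp _ _).symm.trans (congrArg T.map ?_)
    exact congrArg Quiver.Hom.op (toBase_unique (N.δ i ≫ toBase (N.obj (op ⦋0⦌))))
  show augT N T ≫ AlternatingCofaceMapComplex.objD (N.rightOp ⋙ T) 0 = 0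
  rw [AlternatingCofaceMapComplex.objD, Fin.sum_univ_two, Preadditive.comp_add, Preadditive.comp_zsmul,
    Preadditive.comp_zsmul, h, h]
  simp

/-- the augmented double complex -/
def colsT : ColSS.Cols.{u} :=
  (cols (N.rightOp ⋙ T) fun _ => hT _).prepend (T.obj (op Descent.base)) (hT _) (augT N T) (augT_δ N T hT)

variable {T} {T' : (Over S)ᵒᵖ ⥤ CochainComplex AddCommGrpCat.{u} ℤ} (hT' : ∀ P, (T'.obj P).IsStrictlyGE 0)

/-- maps of augmented double complexes -/
def colMap (α : T ⟶ T') : ∀ p, (colsT N T hT).K p ⟶ (colsT N T' hT').K p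
  | 0 => α.app _
  | p + 1 => α.app (N.rightOp.obj ⦋p⦌)

lemma colMap_dh (α : T ⟶ T') (p : ℕ) :
    colMap N hT hT' α p ≫ (colsT N T' hT').dh p = (colsT N T hT).dh p ≫ colMap N hT hT' α (p + 1) := by
  rcases p with _ | p
  · exact (α.naturality _).symm
  · show α.app (N.rightOp.obj ⦋p⦌) ≫ AlternatingCofaceMapComplex.objD (N.rightOp ⋙ T') p =
      AlternatingCofaceMapComplex.objD (N.rightOp ⋙ T) p ≫ α.app (N.rightOp.obj ⦋p + 1⦌)
    rw [AlternatingCofaceMapComplex.objD, AlternatingCofaceMapComplex.objD, Preadditive.comp_sum, Preadditive.sum_comp]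
    refine Finset.sum_congr rfl fun i _ => ?_
    rw [Preadditive.comp_zsmul, Preadditive.zsmul_comp]
    exact congrArg _ (α.naturality _).symm

lemma colMap_comp {T'' : (Over S)ᵒᵖ ⥤ CochainComplex AddCommGrpCat.{u} ℤ} (hT'' : ∀ P, (T''.obj P).IsStrictlyGE 0)
    (α : T ⟶ T') (β : T' ⟶ T'') (p : ℕ) :
    colMap N hT hT' α p ≫ colMap N hT' hT'' β p = colMap N hT hT'' (α ≫ β) p := by
  rcases p with _ | p <;> rfl

lemma colMap_id (p : ℕ) : colMap N hT hT (𝟙 T) p = 𝟙 _ := by
  rcases p with _ | p <;> rfl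

/-- exact rows give an exact augmented total complex -/
theorem exact_colsT (hrow : ∀ q, AugExact (evalDeg (N.rightOp ⋙ T) q) ((augT N T).f q))
    (n : ℤ) (x : (colsT N T hT).Pre) (hx : x ∈ (colsT N T hT).sub ⊤ n) (hD : (colsT N T hT).D x = 0) :
    ∃ τ ∈ (colsT N T hT).sub ⊤ (n - 1), (colsT N T hT).D τ = x := by
  refine ColSS.Cols.exists_primitive_of_rows _ (fun q => (hrow q).inj) (fun p q y hy => ?_) n x hx hD
  rcases p with _ | p
  · exact (hrow q).exact₀ y ((objD_f (N.rightOp ⋙ T) 0 q y).symm.trans hy)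
  · obtain ⟨w, hw⟩ := (hrow q).exact p y ((objD_f (N.rightOp ⋙ T) (p + 1) q y).symm.trans hy)
    exact ⟨w, (objD_f (N.rightOp ⋙ T) p q w).trans hw⟩

end Cols

variable (F : CohTop.Ab S) (N : SimplicialObject (Over S))

lemma isStrictlyGE_MZ (s : S) (P : (Over S)ᵒᵖ) : ((MZ F s).obj P).IsStrictlyGE 0 := by
  rw [CochainComplex.isStrictlyGE_iff]
  intro i hi
  exact HomologicalComplex.isZero_extend_X _ _ _ (fun n => by simp; omega)

/-- the augmented double complex over an open of the base -/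
abbrev CV (V : Opens S) : ColSS.Cols.{u} := colsT N (MV F V) (isStrictlyGE_MV F V)

/-- the augmented double complex of the fibres -/
abbrev CF (s : S) : ColSS.Cols.{u} := colsT N (MZ F s) (isStrictlyGE_MZ F s)

/-- properness of the terms -/
structure ProperTerms : Prop where
  proper : ∀ p, IsProperMap (N.obj (op ⦋p⦌)).hom
  sep : ∀ p (x x' : (N.obj (op ⦋p⦌)).left), (N.obj (op ⦋p⦌)).hom x = (N.obj (op ⦋p⦌)).hom x' → x ≠ x' →
    ∃ U V : Set (N.obj (op ⦋p⦌)).left, IsOpen U ∧ IsOpen V ∧ x ∈ U ∧ x' ∈ V ∧ Disjoint U V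

variable {N} (hN : ProperTerms N)

lemma proper_base : IsProperMap (Descent.base : Over S).hom := isProperMap_id

lemma sep_base (x x' : (Descent.base : Over S).left) (h : (Descent.base : Over S).hom x = (Descent.base : Over S).hom x')
    (hne : x ≠ x') : ∃ U V : Set (Descent.base : Over S).left, IsOpen U ∧ IsOpen V ∧ x ∈ U ∧ x' ∈ V ∧ Disjoint U V :=
  absurd h hne

/-- the approximation of the fibres by the tubes -/
def approx (s : S) : ColSS.Approx {V : Opens S // s ∈ V} (CF F N s) where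
  C V := CV F N V.1
  le i j := j.1 ≤ i.1
  le_refl i := le_refl _
  le_trans h h' := h'.trans h
  res h := colMap N _ _ (resNatZ F h)
  res_dh h := colMap_dh N _ _ (resNatZ F h)
  res_res h h' p := (colMap_comp N _ _ _ _ _ p).trans (by rw [resNatZ_resNatZ])
  r i := colMap N _ _ (rNatZ F i.2)
  r_dh i := colMap_dh N _ _ (rNatZ F i.2)
  res_r {i j} h p := (colMap_comp N _ _ _ _ _ p).trans (by rw [resNatZ_rNatZ F h j.2])
  lift i p q₀ q₁ q₂ h₀₁ h₁₂ z hz := by
    rcases p with _ | p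
    · obtain ⟨V', h, hs', w, e, hw, he⟩ := exists_lift_Z F (P := Descent.base) proper_base sep_base i.2 q₀ q₁ q₂ h₀₁ h₁₂ z hz
      exact ⟨⟨V', hs'⟩, h, w, e, hw, he⟩
    · obtain ⟨V', h, hs', w, e, hw, he⟩ := exists_lift_Z F (hN.proper p) (hN.sep p) i.2 q₀ q₁ q₂ h₀₁ h₁₂ z hz
      exact ⟨⟨V', hs'⟩, h, w, e, hw, he⟩
  primitive i p q₀ q₁ q₂ h₀₁ h₁₂ c hc e he := by
    rcases p with _ | p
    · obtain ⟨V', h, hs', t, ht⟩ := exists_primitive_Z F (P := Descent.base) proper_base sep_base i.2 q₀ q₁ q₂ h₀₁ h₁₂ c hc e he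
      exact ⟨⟨V', hs'⟩, h, t, ht⟩
    · obtain ⟨V', h, hs', t, ht⟩ := exists_primitive_Z F (hN.proper p) (hN.sep p) i.2 q₀ q₁ q₂ h₀₁ h₁₂ c hc e he
      exact ⟨⟨V', hs'⟩, h, t, ht⟩

/-- the presheaf of a component -/
def compPre (P : (Over S)ᵒᵖ) (q : ℤ) : TopCat.Presheaf AddCommGrpCat.{u} S where
  obj V := ((MV F V.unop).obj P).X q
  map h := ((resNatZ F h.unop.le).app P).f q
  map_id V := by
    have h := congrArg (fun α : MV F V.unop ⟶ MV F V.unop => (α.app P).f q) (resNatZ_refl F V.unop)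
    exact h
  map_comp {U V W} h h' := by
    have e := congrArg (fun α : MV F U.unop ⟶ MV F W.unop => (α.app P).f q) (resNatZ_resNatZ F h.unop.le h'.unop.le)
    exact e.symm

/-- a component in a nonnegative degree is a direct image -/
def compIso (P : (Over S)ᵒᵖ) (n : ℕ) :
    compPre F P (n : ℤ) ≅ ((CohTop.push P.unop.hom).obj (G0 (Qn (FP F P.unop) n))).obj :=
  NatIso.ofComponents (fun V => eX ((M0V F V.unop).obj P) n) fun {V W} h => by
    ext x
    exact (eX_map ((resNat F h.unop.le).app P) n x :)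

lemma isSheaf_compPre (P : (Over S)ᵒᵖ) (q : ℤ) : TopCat.Presheaf.IsSheaf (compPre F P q) := by
  by_cases hq : q < 0
  · rw [TopCat.Presheaf.isSheaf_iff_isSheafUniqueGluing]
    intro ι U sf _
    haveI : ∀ V : Opens S, Subsingleton ((compPre F P q).obj (op V)) := fun V =>
      subsingleton_extend ((M0V F V).obj P) hq
    exact ⟨0, fun i => Subsingleton.elim _ _, fun y _ => Subsingleton.elim _ _⟩
  · obtain ⟨n, rfl⟩ := Int.eq_ofNat_of_zero_le (not_lt.1 hq)
    exact TopCat.Presheaf.isSheaf_of_iso (compIso F P n).symm ((CohTop.push P.unop.hom).obj (G0 (Qn (FP F P.unop) n))).2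

lemma surjective_compPre (P : (Over S)ᵒᵖ) (q : ℤ) {V V' : Opens S} (h : V' ≤ V) :
    Function.Surjective (((resNatZ F h).app P).f q) := fun x => by
  by_cases hq : q < 0
  · exact ⟨0, (subsingleton_extend ((M0V F V').obj P) hq).elim _ _⟩
  · obtain ⟨n, rfl⟩ := Int.eq_ofNat_of_zero_le (not_lt.1 hq)
    haveI := TopCat.Sheaf.IsFlasque.pushforward_isFlasque (G0 (Qn (FP F P.unop) n)) P.unop.hom
    obtain ⟨y, hy⟩ := (AddCommGrpCat.epi_iff_surjective _).1
      (TopCat.Presheaf.IsFlasque.epi (F := ((CohTop.push P.unop.hom).obj (G0 (Qn (FP F P.unop) n))).obj) (homOfLE h).op)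
      ((eX ((M0V F V').obj P) n).hom x)
    obtain ⟨z, rfl⟩ := eX_surjective ((M0V F V).obj P) n y
    exact ⟨z, eX_injective ((M0V F V').obj P) n ((eX_map ((resNat F h).app P) n z).trans hy)⟩

variable (N)

/-- restriction of families -/
abbrev rPre {V V' : Opens S} (h : V' ≤ V) : (CV F N V).Pre →+ (CV F N V').Pre :=
  ColSS.mapPre (colMap N _ _ (resNatZ F h))

lemma colMap_res_refl (V : Opens S) (p : ℕ) :
    colMap N _ (isStrictlyGE_MV F V) (resNatZ F (le_refl V)) p = 𝟙 ((CV F N V).K p) := by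
  rw [resNatZ_refl]
  exact colMap_id N _ p

lemma colMap_res_res {V V' V'' : Opens S} (h : V' ≤ V) (h' : V'' ≤ V') (p : ℕ) :
    colMap N (isStrictlyGE_MV F V) (isStrictlyGE_MV F V') (resNatZ F h) p ≫
      colMap N _ (isStrictlyGE_MV F V'') (resNatZ F h') p =
    colMap N (isStrictlyGE_MV F V) (isStrictlyGE_MV F V'') (resNatZ F (h'.trans h)) p :=
  (colMap_comp N _ _ _ _ _ p).trans (by rw [resNatZ_resNatZ])

lemma rPre_refl {V : Opens S} (s : (CV F N V).Pre) : rPre F N (le_refl V) s = s := by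
  funext p q
  exact ConcreteCategory.congr_hom (congrArg (fun m => HomologicalComplex.Hom.f m q)
    (colMap_res_refl F N V p)) (s p q)

lemma rPre_rPre {V V' V'' : Opens S} (h : V' ≤ V) (h' : V'' ≤ V') (s : (CV F N V).Pre) :
    rPre F N h' (rPre F N h s) = rPre F N (h'.trans h) s := by
  funext p q
  exact ConcreteCategory.congr_hom (congrArg (fun m => HomologicalComplex.Hom.f m q)
    (colMap_res_res F N h h' p)) (s p q)

/-- the presheaf of a component of the families -/
def colPre (p : ℕ) (q : ℤ) : TopCat.Presheaf AddCommGrpCat.{u} S where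
  obj V := ((CV F N V.unop).K p).X q
  map h := (colMap N (isStrictlyGE_MV F _) (isStrictlyGE_MV F _) (resNatZ F h.unop.le) p).f q
  map_id V := congrArg (fun m => HomologicalComplex.Hom.f m q) (colMap_res_refl F N V.unop p)
  map_comp h h' := (congrArg (fun m => HomologicalComplex.Hom.f m q) (colMap_res_res F N h.unop.le h'.unop.le p)).symm

lemma colPre_eq_zero (q : ℤ) : colPre F N 0 q = compPre F (op Descent.base) q := rfl

lemma colPre_eq_succ (p : ℕ) (q : ℤ) : colPre F N (p + 1) q = compPre F (N.rightOp.obj ⦋p⦌) q := rfl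

lemma isSheaf_colPre (p : ℕ) (q : ℤ) : TopCat.Presheaf.IsSheaf (colPre F N p q) := by
  rcases p with _ | p
  · rw [colPre_eq_zero]; exact isSheaf_compPre F _ q
  · rw [colPre_eq_succ]; exact isSheaf_compPre F _ q

lemma surjective_colPre (p : ℕ) (q : ℤ) {V V' : Opens S} (h : V' ≤ V) :
    Function.Surjective ((colPre F N p q).map (homOfLE h).op) := by
  rcases p with _ | p
  · exact surjective_compPre F (op Descent.base) q h
  · exact surjective_compPre F (N.rightOp.obj ⦋p⦌) q h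

/-- the presheaf of the total degree `n` -/
def totPre (n : ℕ) : TopCat.Presheaf AddCommGrpCat.{u} S where
  obj V := AddCommGrpCat.of ((CV F N V.unop).sub ⊤ (n : ℤ))
  map h := AddCommGrpCat.ofHom (AddMonoidHom.mk'
    (fun s => ⟨rPre F N h.unop.le s.1, ColSS.mapPre_mem _ s.2⟩)
    fun a b => Subtype.ext (map_add (rPre F N h.unop.le) a.1 b.1))
  map_id V := AddCommGrpCat.ext fun s => Subtype.ext (rPre_refl F N s.1)
  map_comp h h' := AddCommGrpCat.ext fun s => Subtype.ext (rPre_rPre F N h.unop.le h'.unop.le s.1).symm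

lemma isSheaf_totPre (n : ℕ) : TopCat.Presheaf.IsSheaf (totPre F N n) := by
  classical
  rw [TopCat.Presheaf.isSheaf_iff_isSheafUniqueGluing]
  intro ι U sf hsf
  have hcomp : ∀ p q, TopCat.Presheaf.IsCompatible (colPre F N p q) U
      (fun i => ((sf i).1 p q : ((CV F N (U i)).K p).X q)) := fun p q i j =>
    congrArg (fun z : (CV F N (U i ⊓ U j)).sub ⊤ (n : ℤ) => z.1 p q) (hsf i j)
  choose t ht huniq using fun p q =>
    (TopCat.Presheaf.isSheaf_iff_isSheafUniqueGluing _).1 (isSheaf_colPre F N p q) U _ (hcomp p q)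
  let t' : (CV F N (iSup U)).Pre := fun p q => if (p : ℤ) + q = n then t p q else 0
  refine ⟨⟨t', fun p q h => ?_⟩, fun i => Subtype.ext (funext fun p => funext fun q => ?_),
    fun y hy => Subtype.ext (funext fun p => funext fun q => ?_)⟩
  · rcases h with h | h
    · exact if_neg h
    · simp at h
  · show (colPre F N p q).map (homOfLE (le_iSup U i)).op (t' p q) = (sf i).1 p q
    by_cases h : (p : ℤ) + q = n
    · rw [show t' p q = t p q from if_pos h]
      exact ht p q i
    · rw [show t' p q = 0 from if_neg h, show (sf i).1 p q = 0 from (sf i).2 p q (Or.inl h)]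
      exact map_zero _
  · by_cases h : (p : ℤ) + q = n
    · exact (huniq p q _ fun i => congrArg (fun z : (CV F N (U i)).sub ⊤ (n : ℤ) => z.1 p q) (hy i)).trans
        (if_pos h).symm
    · exact (y.2 p q (Or.inl h)).trans (if_neg h).symm

/-- the sheaf of the total degree `n` -/
def totSh (n : ℕ) : CohTop.Ab S := ⟨totPre F N n, isSheaf_totPre F N n⟩

lemma isFlasque_totSh (n : ℕ) : TopCat.Sheaf.IsFlasque (totSh F N n) := by
  classical
  refine ⟨fun {V V'} h => (AddCommGrpCat.epi_iff_surjective _).2 fun s => ?_⟩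
  choose t ht using fun p q => surjective_colPre F N p q h.unop.le (s.1 p q)
  let t' : (CV F N V.unop).Pre := fun p q => if (p : ℤ) + q = n then t p q else 0
  refine ⟨⟨t', fun p q hpq => ?_⟩, Subtype.ext (funext fun p => funext fun q => ?_)⟩
  · rcases hpq with hpq | hpq
    · exact if_neg hpq
    · simp at hpq
  · show (colPre F N p q).map h.unop.le.hom.op (t' p q) = s.1 p q
    by_cases hh : (p : ℤ) + q = n
    · rw [show t' p q = t p q from if_pos hh]
      exact ht p q
    · rw [show t' p q = 0 from if_neg hh, show s.1 p q = 0 from s.2 p q (Or.inl hh)]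
      exact map_zero _

/-- the total differential as a map of sheaves -/
def totD (n : ℕ) : totSh F N n ⟶ totSh F N (n + 1) :=
  ⟨{ app := fun V => AddCommGrpCat.ofHom (AddMonoidHom.mk'
      (fun s => (⟨(CV F N V.unop).D s.1, (CV F N V.unop).D_mem s.2⟩ : (CV F N V.unop).sub ⊤ ((n + 1 : ℕ) : ℤ)))
      fun a b => Subtype.ext (map_add ((CV F N V.unop).D) a.1 b.1))
     naturality := fun V W h => AddCommGrpCat.ext fun s => Subtype.ext
      (ColSS.mapPre_D _ (colMap_dh N _ _ (resNatZ F h.unop.le)) s.1).symm }⟩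

lemma totD_totD (n : ℕ) : totD F N n ≫ totD F N (n + 1) = 0 := by
  refine CategoryTheory.Sheaf.hom_ext (NatTrans.ext (funext fun V => AddCommGrpCat.ext fun s => Subtype.ext ?_))
  exact (CV F N V.unop).D_D s.1

lemma sub_neg_eq_zero {V : Opens S} {n : ℤ} (hn : n < 0) {x : (CV F N V).Pre} (hx : x ∈ (CV F N V).sub ⊤ n) : x = 0 :=
  funext fun p => funext fun q => by
    by_cases hq : q < 0
    · exact (CV F N V).eq_zero_of_neg _ p hq
    · exact hx p q (Or.inl (by omega))

variable {N}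

include hN in
/-- the augmented total complex over every open is exact -/
theorem exact_CV (hfib : ∀ (s : S) (q : ℤ), AugExact (evalDeg (N.rightOp ⋙ MZ F s) q) ((augT N (MZ F s)).f q))
    (V : Opens S) (n : ℤ) (x : (CV F N V).Pre) (hx : x ∈ (CV F N V).sub ⊤ n) (hxD : (CV F N V).D x = 0) :
    ∃ τ ∈ (CV F N V).sub ⊤ (n - 1), (CV F N V).D τ = x := by
  have hloc : ∀ (U : Opens S) (m : ℤ) (c : (CV F N U).Pre), c ∈ (CV F N U).sub ⊤ m → (CV F N U).D c = 0 →
      ∀ s ∈ U, ∃ (U' : Opens S) (h : U' ≤ U), s ∈ U' ∧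
        ∃ t ∈ (CV F N U').sub ⊤ (m - 1), rPre F N h c = (CV F N U').D t := fun U m c hc hcD s hs => by
    obtain ⟨j, h, t, ht, e⟩ := (approx F hN s).exists_boundary
      (exact_colsT N (isStrictlyGE_MZ F s) (hfib s)) m ⟨U, hs⟩ c hc hcD
    exact ⟨j.1, h, j.2, t, ht, e⟩
  obtain ⟨h0, h1⟩ := sections_exact (totSh F N) (totD F N) (totD_totD F N) (isFlasque_totSh F N)
    (fun U x hx s hs => by
      obtain ⟨U', h, hs', t, ht, e⟩ := hloc U _ x.1 x.2 (congrArg Subtype.val hx) s hs
      refine ⟨U', h, hs', Subtype.ext (e.trans ?_)⟩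
      rw [sub_neg_eq_zero F N (show ((0 : ℕ) : ℤ) - 1 < 0 by omega) ht, map_zero]
      rfl)
    (fun m U x hx s hs => by
      obtain ⟨U', h, hs', t, ht, e⟩ := hloc U _ x.1 x.2 (congrArg Subtype.val hx) s hs
      rw [show ((m + 1 : ℕ) : ℤ) - 1 = (m : ℤ) by push_cast; omega] at ht
      exact ⟨U', h, hs', ⟨t, ht⟩, Subtype.ext e.symm⟩) V
  by_cases hn : n ≤ 0
  · have : x = 0 := by
      by_cases hn' : n < 0
      · exact sub_neg_eq_zero F N hn' hx
      · obtain rfl : n = ((0 : ℕ) : ℤ) := by push_cast; omega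
        exact congrArg Subtype.val (h0 ⟨x, hx⟩ (Subtype.ext hxD))
    exact ⟨0, zero_mem _, by rw [this, map_zero]⟩
  · obtain ⟨m, rfl⟩ : ∃ m : ℕ, n = ((m + 1 : ℕ) : ℤ) := ⟨(n - 1).toNat, by omega⟩
    obtain ⟨t, ht⟩ := h1 m ⟨x, hx⟩ (Subtype.ext hxD)
    refine ⟨t.1, ?_, congrArg Subtype.val ht⟩
    have := t.2
    rwa [show ((m + 1 : ℕ) : ℤ) - 1 = (m : ℤ) by push_cast; omega]

include hN in
/-- The descent spectral sequence of a simplicial space proper over the base with exact fibres. -/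
theorem exists_spectralSequence_of_proper
    (hfib : ∀ (s : S) (q : ℤ), AugExact (evalDeg (N.rightOp ⋙ MZ F s) q) ((augT N (MZ F s)).f q)) :
    ∃ (E : CohomologicalSpectralSequence AddCommGrpCat.{u} 1)
      (a : SpSeq.Abutment E (fun n : ℤ =>
        if 0 ≤ n then AddCommGrpCat.of (CohTop.H F n.toNat) else AddCommGrpCat.of PUnit.{u + 1})),
      (∀ n, a.IsFinite n) ∧ SpSeq.IsBounded E ∧
      ∀ p q : ℤ, Nonempty ((E.page 1 le_rfl).X (p, q) ≅
        (if 0 ≤ p ∧ 0 ≤ q then
          AddCommGrpCat.of (CohTop.H ((CohTop.pull (N.obj (op ⦋p.toNat⦌)).hom).obj F) q.toNat)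
         else AddCommGrpCat.of PUnit.{u + 1})) := by
  let C₀ := cols (N.rightOp ⋙ MV F ⊤) fun _ => isStrictlyGE_MV F ⊤ _
  refine ColSS.Cols.exists_spectralSequence C₀ _ (fun n => ?_)
    (fun p q => AddCommGrpCat.of (CohTop.H ((CohTop.pull (N.obj (op ⦋p⦌)).hom).obj F) q))
    (fun p q => nonempty_homology_M_iso F (op (N.obj (op ⦋p⦌))) q)
    (AddCommGrpCat.of PUnit.{u + 1}) (AddCommGrpCat.isZero_of_subsingleton _)
  obtain ⟨e⟩ := ColSS.Cols.nonempty_tot_iso_of_exact C₀ ((MV F ⊤).obj (op Descent.base)) (isStrictlyGE_MV F ⊤ _)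
    (augT N (MV F ⊤)) (augT_δ N (MV F ⊤) (isStrictlyGE_MV F ⊤)) (exact_CV F hN hfib ⊤) n
  by_cases hn : 0 ≤ n
  · obtain ⟨m, rfl⟩ := Int.eq_ofNat_of_zero_le hn
    refine ⟨e ≪≫ ?_⟩
    rw [if_pos hn]
    exact (nonempty_homology_M_id_iso F m).some
  · refine ⟨e ≪≫ ?_⟩
    rw [if_neg hn]
    haveI := isStrictlyGE_MV F ⊤ (op (Descent.base : Over S))
    refine IsZero.iso ?_ (AddCommGrpCat.isZero_of_subsingleton _)
    exact (ShortComplex.exact_iff_isZero_homology _).1
      (ShortComplex.exact_of_isZero_X₂ _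
        (CochainComplex.isZero_of_isStrictlyGE ((MV F ⊤).obj (op (Descent.base : Over S))) 0 n (by omega) :))

end Groth.Agent.Descent.Rel
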