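import Groth.Agent.SoftSheaf.Compare
import Groth.Agent.Godement.Functor
import Groth.Agent.Descent.LocalHomeo

/-! # Godement complexes of the spaces over a base, relative to the opens of the base -/

set_option autoImplicit false
set_option linter.style.haveILetI false

noncomputable section

universe u

open CategoryTheory CategoryTheory.Limits TopologicalSpace Opposite
open scoped Topology

namespace Groth.Agent.Descent.Rel

open Godement SoftSheaf

variable {S : TopCat.{u}} (F : CohTop.Ab S)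

/-- the preimage of an open -/
abbrev pre (V : Opens S) (P : Over S) : Opens P.left := (Opens.map P.hom).obj V

/-- the sheaf on a space over the base -/
abbrev FP (P : Over S) : CohTop.Ab P.left := (CohTop.pull P.hom).obj F

lemma pre_le (V : Opens S) {P Q : Over S} (g : P ⟶ Q) : pre V P ≤ (Opens.map g.left).obj (pre V Q) :=
  fun y hy => by
    show Q.hom (g.left y) ∈ V
    rw [hom_left g y]
    exact hy

lemma stMap_id' (n : ℕ) (P : Over S) (y : P.left) (t : St F n P y) : stMap F n (𝟙 P) y t = t := by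
  show (Qnmap (coh F (𝟙 P : P ⟶ P).left (Over.w _)) n).stalk y t = t
  rw [show coh F (𝟙 P : P ⟶ P).left (Over.w _) = Coh.id _ from coh_id F _, Qnmap_id]
  exact Coh.stalk_id _ _ _

lemma stMap_comp' (n : ℕ) {P Q R : Over S} (g : P ⟶ Q) (g' : Q ⟶ R) (y : P.left)
    (t : St F n R (g'.left (g.left y))) :
    stMap F n (g ≫ g') y t = stMap F n g y (stMap F n g' (g.left y) t) := by
  show (Qnmap (coh F (g ≫ g').left (Over.w _)) n).stalk y t = _
  rw [show coh F (g ≫ g').left (Over.w _) = (coh F g'.left (Over.w g')).comp (coh F g.left (Over.w g)) from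
    coh_comp F g'.left g.left _ _ _, Qnmap_comp]
  exact Coh.stalk_comp _ _ y t

/-- the map of relative complexes of a morphism -/
def mapV (V : Opens S) {P Q : Over S} (g : P ⟶ Q) : cxU (FP F Q) (pre V Q) ⟶ cxU (FP F P) (pre V P) :=
  cxUMap (coh F g.left (Over.w g)) (pre V Q) ≫ cxURes _ (pre_le V g)

lemma mapV_apply (V : Opens S) {P Q : Over S} (g : P ⟶ Q) (n : ℕ) (s : SG (FP F Q) n (pre V Q)) (y : pre V P) :
    (mapV F V g).f n s y = stMap F n g y.1 (s ⟨g.left y.1, pre_le V g y.2⟩) := rfl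

/-- the relative complexes as a functor -/
def M0V (V : Opens S) : (Over S)ᵒᵖ ⥤ CochainComplex AddCommGrpCat.{u} ℕ where
  obj P := cxU (FP F P.unop) (pre V P.unop)
  map g := mapV F V g.unop
  map_id P := by
    ext n s
    exact funext fun y => stMap_id' F n P.unop y.1 _
  map_comp {P Q R} g g' := by
    ext n s
    exact funext fun y => stMap_comp' F n g'.unop g.unop y.1 _

/-- restriction between opens -/
def resNat {V V' : Opens S} (h : V' ≤ V) : M0V F V ⟶ M0V F V' where
  app P := cxURes _ (fun y hy => h hy)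
  naturality P Q g := by
    ext n s
    rfl

lemma resNat_resNat {V V' V'' : Opens S} (h : V' ≤ V) (h' : V'' ≤ V') :
    resNat F h ≫ resNat F h' = resNat F (h'.trans h) := by
  ext P n s
  rfl

lemma resNat_refl (V : Opens S) : resNat F (le_refl V) = 𝟙 _ := by
  ext P n s
  rfl

/-- the complexes indexed by integers -/
def MV (V : Opens S) : (Over S)ᵒᵖ ⥤ CochainComplex AddCommGrpCat.{u} ℤ :=
  M0V F V ⋙ ComplexShape.embeddingUpNat.extendFunctor AddCommGrpCat.{u}

lemma isStrictlyGE_MV (V : Opens S) (P : (Over S)ᵒᵖ) : ((MV F V).obj P).IsStrictlyGE 0 := by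
  rw [CochainComplex.isStrictlyGE_iff]
  intro i hi
  exact HomologicalComplex.isZero_extend_X _ _ _ (fun n => by simp; omega)

/-- restriction between opens, indexed by integers -/
def resNatZ {V V' : Opens S} (h : V' ≤ V) : MV F V ⟶ MV F V' :=
  Functor.whiskerRight (resNat F h) (ComplexShape.embeddingUpNat.extendFunctor AddCommGrpCat.{u})

lemma resNatZ_resNatZ {V V' V'' : Opens S} (h : V' ≤ V) (h' : V'' ≤ V') :
    resNatZ F h ≫ resNatZ F h' = resNatZ F (h'.trans h) := by
  exact (Functor.whiskerRight_comp (resNat F h) (resNat F h') _).symm.trans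
    (congrArg (fun m => Functor.whiskerRight m _) (resNat_resNat F h h'))

lemma resNatZ_refl (V : Opens S) : resNatZ F (le_refl V) = 𝟙 _ := by
  rw [resNatZ, resNat_refl]
  exact Functor.whiskerRight_id _

variable (s : S)

/-- the fibre over a point -/
def fibObj (P : Over S) : Over S :=
  Over.mk ((TopCat.ofHom ⟨((↑) : (P.hom ⁻¹' {s} : Set P.left) → P.left), continuous_subtype_val⟩ :
    TopCat.of (P.hom ⁻¹' {s} : Set P.left) ⟶ P.left) ≫ P.hom)

/-- the inclusion of the fibre -/
def fibι (P : Over S) : fibObj s P ⟶ P :=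
  Over.homMk (TopCat.ofHom ⟨((↑) : (P.hom ⁻¹' {s} : Set P.left) → P.left), continuous_subtype_val⟩) rfl

lemma fibι_mem (P : Over S) (y : (fibObj s P).left) : P.hom ((fibι s P).left y) = s := y.2

/-- functoriality of fibres -/
def fibMap {P Q : Over S} (g : P ⟶ Q) : fibObj s P ⟶ fibObj s Q :=
  Over.homMk (TopCat.ofHom ⟨fun y => ⟨g.left y.1, (hom_left g y.1).trans y.2⟩,
    (g.left.hom.continuous.comp continuous_subtype_val).subtype_mk _⟩)
    (by ext y; exact hom_left g y.1)

/-- fibres as a functor -/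
def fib : Over S ⥤ Over S where
  obj := fibObj s
  map := fibMap s
  map_id P := by ext y; rfl
  map_comp g g' := by ext y; rfl

/-- the complexes of the fibres -/
def M0Z : (Over S)ᵒᵖ ⥤ CochainComplex AddCommGrpCat.{u} ℕ := (fib s).op ⋙ M₀ F

/-- the complexes of the fibres, indexed by integers -/
def MZ : (Over S)ᵒᵖ ⥤ CochainComplex AddCommGrpCat.{u} ℤ :=
  M0Z F s ⋙ ComplexShape.embeddingUpNat.extendFunctor AddCommGrpCat.{u}

variable {s}

lemma fibι_pre {V : Opens S} (hs : s ∈ V) (P : Over S) (y : (fibObj s P).left) : (fibι s P).left y ∈ pre V P := by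
  show P.hom ((fibι s P).left y) ∈ V
  rw [fibι_mem]
  exact hs

/-- restriction to the fibre -/
def rApp {V : Opens S} (hs : s ∈ V) (P : Over S) :
    cxU (FP F P) (pre V P) ⟶ cx (FP F (fibObj s P)) :=
  (cxUMap (coh F (fibι s P).left (Over.w (fibι s P))) (pre V P) ≫
    cxURes _ (top_le (i := (fibι s P).left) (pre V P) (fibι_pre hs P)) :
      cxU (FP F P) (pre V P) ⟶ cxU (FP F (fibObj s P)) ⊤)

lemma rApp_eq_rZ {V : Opens S} (hs : s ∈ V) (P : Over S) (n : ℕ) (x : SG (FP F P) n (pre V P)) :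
    (rApp F hs P).f n x = rZ (coh F (fibι s P).left (Over.w (fibι s P))) (pre V P) (fibι_pre hs P) n x := rfl

/-- restriction to the fibre, naturally -/
def rNat {V : Opens S} (hs : s ∈ V) : M0V F V ⟶ M0Z F s where
  app P := rApp F hs P.unop
  naturality P Q g := by
    ext n x
    exact funext fun y => ((stMap_comp' F n (fibι s Q.unop) g.unop y.1 _).symm.trans
      (stMap_comp' F n (fibMap s g.unop) (fibι s P.unop) y.1 _) :)

/-- restriction to the fibre, indexed by integers -/
def rNatZ {V : Opens S} (hs : s ∈ V) : MV F V ⟶ MZ F s :=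
  Functor.whiskerRight (rNat F hs) (ComplexShape.embeddingUpNat.extendFunctor AddCommGrpCat.{u})

lemma resNatZ_rNatZ {V V' : Opens S} (h : V' ≤ V) (hs : s ∈ V') :
    resNatZ F h ≫ rNatZ F hs = rNatZ F (h hs) := by
  refine (Functor.whiskerRight_comp (resNat F h) (rNat F hs) _).symm.trans (congrArg (fun m => Functor.whiskerRight m _) ?_)
  ext P n x
  rfl

section Extend

variable {A B : CochainComplex AddCommGrpCat.{u} ℕ}

/-- the terms of an extended complex -/
def eX (A : CochainComplex AddCommGrpCat.{u} ℕ) (n : ℕ) :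
    ((ComplexShape.embeddingUpNat.extendFunctor AddCommGrpCat.{u}).obj A).X (n : ℤ) ≅ A.X n :=
  A.extendXIso ComplexShape.embeddingUpNat (i := n) rfl

lemma eX_d (A : CochainComplex AddCommGrpCat.{u} ℕ) (m n : ℕ) (q₀ q₁ : ℤ) (h₀ : q₀ = m) (h₁ : q₁ = n)
    (x : ((ComplexShape.embeddingUpNat.extendFunctor AddCommGrpCat.{u}).obj A).X q₀) :
    (eX A n).hom (h₁ ▸ ((ComplexShape.embeddingUpNat.extendFunctor AddCommGrpCat.{u}).obj A).d q₀ q₁ x) =
      A.d m n ((eX A m).hom (h₀ ▸ x)) := by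
  subst h₀ h₁
  have h := A.extend_d_eq ComplexShape.embeddingUpNat (i' := (m : ℤ)) (j' := (n : ℤ)) (i := m) (j := n) rfl rfl
  refine (congrArg (eX A n).hom (ConcreteCategory.congr_hom h x)).trans ?_
  exact ConcreteCategory.congr_hom (eX A n).inv_hom_id _

lemma eX_map (f : A ⟶ B) (n : ℕ) (x : ((ComplexShape.embeddingUpNat.extendFunctor AddCommGrpCat.{u}).obj A).X (n : ℤ)) :
    (eX B n).hom (((ComplexShape.embeddingUpNat.extendFunctor AddCommGrpCat.{u}).map f).f (n : ℤ) x) =
      f.f n ((eX A n).hom x) := by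
  have h := HomologicalComplex.extendMap_f f ComplexShape.embeddingUpNat (i := n) (i' := (n : ℤ)) rfl
  refine (congrArg (eX B n).hom (ConcreteCategory.congr_hom h x)).trans ?_
  exact ConcreteCategory.congr_hom (eX B n).inv_hom_id _

lemma subsingleton_extend (A : CochainComplex AddCommGrpCat.{u} ℕ) {q : ℤ} (hq : q < 0) :
    Subsingleton (((ComplexShape.embeddingUpNat.extendFunctor AddCommGrpCat.{u}).obj A).X q) :=
  AddCommGrpCat.subsingleton_of_isZero (HomologicalComplex.isZero_extend_X _ _ _ (fun n => by simp; omega))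

lemma eX_injective (A : CochainComplex AddCommGrpCat.{u} ℕ) (n : ℕ) : Function.Injective (eX A n).hom :=
  (ConcreteCategory.bijective_of_isIso (eX A n).hom).1

lemma eX_surjective (A : CochainComplex AddCommGrpCat.{u} ℕ) (n : ℕ) : Function.Surjective (eX A n).hom :=
  (ConcreteCategory.bijective_of_isIso (eX A n).hom).2

end Extend

variable {P : Over S} (hc : IsProperMap P.hom)
  (hsep : ∀ x x' : P.left, P.hom x = P.hom x' → x ≠ x' →
    ∃ U V : Set P.left, IsOpen U ∧ IsOpen V ∧ x ∈ U ∧ x' ∈ V ∧ Disjoint U V)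

lemma isInducing_fibι (P : Over S) : Topology.IsInducing (fibι s P).left := Topology.IsInducing.subtypeVal

lemma injective_fibι (P : Over S) : Function.Injective (fibι s P).left := Subtype.val_injective

include hc in
lemma compactSpace_fib : CompactSpace (fibObj s P).left :=
  isCompact_iff_compactSpace.1 (hc.isCompact_preimage isCompact_singleton)

include hsep in
lemma sep_fib : ∀ x ∈ Set.range (fibι s P).left, ∀ y ∈ Set.range (fibι s P).left, x ≠ y → Disjoint (𝓝 x) (𝓝 y) := by
  rintro _ ⟨a, rfl⟩ _ ⟨b, rfl⟩ hab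
  obtain ⟨U, V, hU, hV, ha, hb, h⟩ := hsep _ _ ((fibι_mem s P a).trans (fibι_mem s P b).symm) hab
  exact Filter.disjoint_of_disjoint_of_mem h (hU.mem_nhds ha) (hV.mem_nhds hb)

include hsep in
lemma t2Space_fib : T2Space (fibObj s P).left := t2Space_iff_disjoint_nhds.2 fun a b hab => by
  have h := sep_fib (s := s) hsep _ ⟨a, rfl⟩ _ ⟨b, rfl⟩ fun h => hab (injective_fibι P h)
  show Disjoint (𝓝 a) (𝓝 b)
  rw [(isInducing_fibι P).nhds_eq_comap, (isInducing_fibι P).nhds_eq_comap]
  exact Filter.disjoint_comap h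

include hc in
lemma exists_tube {V : Opens S} (hs : s ∈ V) (U : Opens P.left) (hU : ∀ y, (fibι s P).left y ∈ U) :
    ∃ V' : Opens S, V' ≤ V ∧ s ∈ V' ∧ pre V' P ≤ U := by
  refine ⟨V ⊓ ⟨(P.hom '' (U : Set P.left)ᶜ)ᶜ, (hc.isClosedMap _ U.2.isClosed_compl).isOpen_compl⟩, inf_le_left, ⟨hs, ?_⟩, ?_⟩
  · rintro ⟨y, hy, hys⟩
    exact hy (hU ⟨y, hys⟩)
  · intro y hy
    by_contra h
    exact hy.2 ⟨y, h, rfl⟩

lemma bijective_coh_fibι (P : Over S) (z : (fibObj s P).left) :
    Function.Bijective ((coh F (fibι s P).left (Over.w (fibι s P))).stalk z) :=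
  bijective_coh_stalk F _ _ z

include hc hsep in
/-- cycles on a fibre come from tubes -/
theorem exists_lift_Z {V : Opens S} (hs : s ∈ V) (q₀ q₁ q₂ : ℤ) (h₀₁ : q₀ + 1 = q₁) (h₁₂ : q₁ + 1 = q₂)
    (z : ((MZ F s).obj (op P)).X q₁) (hz : ((MZ F s).obj (op P)).d q₁ q₂ z = 0) :
    ∃ (V' : Opens S) (_ : V' ≤ V) (hs' : s ∈ V') (w : ((MV F V').obj (op P)).X q₁)
      (e : ((MZ F s).obj (op P)).X q₀), ((MV F V').obj (op P)).d q₁ q₂ w = 0 ∧
        ((rNatZ F hs').app (op P)).f q₁ w + ((MZ F s).obj (op P)).d q₀ q₁ e = z := by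
  haveI := compactSpace_fib (s := s) hc
  haveI := t2Space_fib (s := s) hsep
  by_cases hq : q₁ < 0
  · refine ⟨V, le_rfl, hs, 0, 0, map_zero _, ?_⟩
    exact (subsingleton_extend ((M0Z F s).obj (op P)) hq).elim _ _
  obtain ⟨n, rfl⟩ := Int.eq_ofNat_of_zero_le (not_lt.1 hq)
  obtain rfl : q₂ = ((n + 1 : ℕ) : ℤ) := by push_cast; omega
  let w₀ : ΓG (FP F (fibObj s P)) n := (eX ((M0Z F s).obj (op P)) n).hom z
  have hw₀ : dG (FP F (fibObj s P)) n w₀ = 0 := by
    have := eX_d ((M0Z F s).obj (op P)) n (n + 1) _ _ rfl rfl z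
    rw [← cx_d]
    refine this.symm.trans ?_
    exact (congrArg (eX ((M0Z F s).obj (op P)) (n + 1)).hom hz).trans (map_zero _)
  have fin : ∀ (U : Opens P.left) (hU : ∀ y, (fibι s P).left y ∈ U) (σ : SG (FP F P) n U),
      dS (FP F P) n U σ = 0 → ∃ (V' : Opens S) (_ : V' ≤ V) (hs' : s ∈ V') (w : ((MV F V').obj (op P)).X (n : ℤ)),
        ((MV F V').obj (op P)).d (n : ℤ) ((n + 1 : ℕ) : ℤ) w = 0 ∧
        (eX ((M0Z F s).obj (op P)) n).hom (((rNatZ F hs').app (op P)).f (n : ℤ) w) =
          rZ (coh F (fibι s P).left (Over.w (fibι s P))) U hU n σ := by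
    intro U hU σ hσ
    obtain ⟨V', hle, hs', hle'⟩ := exists_tube hc hs U hU
    obtain ⟨w, hw⟩ := eX_surjective ((M0V F V').obj (op P)) n ((cxURes _ hle').f n σ)
    refine ⟨V', hle, hs', w, eX_injective ((M0V F V').obj (op P)) (n + 1) ?_, ?_⟩
    · refine Eq.trans ?_ (map_zero _).symm
      refine (eX_d ((M0V F V').obj (op P)) n (n + 1) _ _ rfl rfl w).trans ?_
      refine (congrArg ((cxU (FP F P) (pre V' P)).d n (n + 1)) hw).trans ?_
      refine (ConcreteCategory.congr_hom ((cxURes (FP F P) hle').comm n (n + 1)) σ).trans ?_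
      show (cxURes (FP F P) hle').f (n + 1) ((cxU (FP F P) U).d n (n + 1) σ) = 0
      rw [cxU_d]
      exact (congrArg ((cxURes (FP F P) hle').f (n + 1)) hσ).trans (map_zero ((cxURes (FP F P) hle').f (n + 1)).hom)
    · refine (eX_map ((rNat F hs').app (op P)) n w).trans ?_
      refine (congrArg (((rNat F hs').app (op P)).f n) hw).trans ?_
      rfl
  obtain _ | m := n
  · obtain ⟨U, hU, σ, hσ, hr⟩ := exists_lift_cycle_zero (coh F (fibι s P).left (Over.w (fibι s P)))
      (bijective_coh_fibι F P) (isInducing_fibι P) (injective_fibι P) (sep_fib hsep) w₀ hw₀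
    obtain ⟨V', hle, hs', w, hw, hr'⟩ := fin U hU σ hσ
    refine ⟨V', hle, hs', w, 0, hw, eX_injective ((M0Z F s).obj (op P)) 0 ?_⟩
    rw [map_zero, add_zero]
    exact hr'.trans hr
  · obtain ⟨U, hU, σ, e, hσ, hr⟩ := exists_lift_cycle_succ (coh F (fibι s P).left (Over.w (fibι s P)))
      (bijective_coh_fibι F P) (isInducing_fibι P) (injective_fibι P) (sep_fib hsep) m w₀ hw₀
    obtain ⟨V', hle, hs', w, hw, hr'⟩ := fin U hU σ hσ
    obtain rfl : q₀ = (m : ℤ) := by push_cast at h₀₁; omega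
    obtain ⟨e', he'⟩ := eX_surjective ((M0Z F s).obj (op P)) m e
    refine ⟨V', hle, hs', w, e', hw, eX_injective ((M0Z F s).obj (op P)) (m + 1) ?_⟩
    refine (map_add (eX ((M0Z F s).obj (op P)) (m + 1)).hom.hom _ _).trans ?_
    refine (congrArg₂ (· + ·) hr' ((eX_d ((M0Z F s).obj (op P)) m (m + 1) _ _ rfl rfl e').trans
      ((congrArg (((M0Z F s).obj (op P)).d m (m + 1)) he').trans ?_))).trans hr
    exact ConcreteCategory.congr_hom (cx_d (FP F (fibObj s P)) m) e

include hc hsep in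
/-- cycles which are boundaries on a fibre are boundaries on a tube -/
theorem exists_primitive_Z {V : Opens S} (hs : s ∈ V) (q₀ q₁ q₂ : ℤ) (h₀₁ : q₀ + 1 = q₁) (h₁₂ : q₁ + 1 = q₂)
    (c : ((MV F V).obj (op P)).X q₁) (hcc : ((MV F V).obj (op P)).d q₁ q₂ c = 0)
    (e : ((MZ F s).obj (op P)).X q₀)
    (he : ((rNatZ F hs).app (op P)).f q₁ c = ((MZ F s).obj (op P)).d q₀ q₁ e) :
    ∃ (V' : Opens S) (h : V' ≤ V) (_ : s ∈ V') (t : ((MV F V').obj (op P)).X q₀),
      ((resNatZ F h).app (op P)).f q₁ c = ((MV F V').obj (op P)).d q₀ q₁ t := by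
  haveI := compactSpace_fib (s := s) hc
  haveI := t2Space_fib (s := s) hsep
  by_cases hq : q₁ < 0
  · exact ⟨V, le_rfl, hs, 0, (subsingleton_extend ((M0V F V).obj (op P)) hq).elim _ _⟩
  obtain ⟨n, rfl⟩ := Int.eq_ofNat_of_zero_le (not_lt.1 hq)
  obtain rfl : q₂ = ((n + 1 : ℕ) : ℤ) := by push_cast; omega
  let σ : SG (FP F P) n (pre V P) := (eX ((M0V F V).obj (op P)) n).hom c
  have hσ : dS (FP F P) n (pre V P) σ = 0 := by
    rw [← cxU_d]
    refine (eX_d ((M0V F V).obj (op P)) n (n + 1) _ _ rfl rfl c).symm.trans ?_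
    exact (congrArg (eX ((M0V F V).obj (op P)) (n + 1)).hom hcc).trans (map_zero _)
  have hr : rZ (coh F (fibι s P).left (Over.w (fibι s P))) (pre V P) (fibι_pre hs P) n σ =
      (eX ((M0Z F s).obj (op P)) n).hom (((MZ F s).obj (op P)).d q₀ (n : ℤ) e) := by
    rw [← he]
    exact (eX_map ((rNat F hs).app (op P)) n c).symm
  obtain _ | m := n
  · have h0 : ((MZ F s).obj (op P)).d q₀ ((0 : ℕ) : ℤ) e = 0 := by
      have : Subsingleton (((MZ F s).obj (op P)).X q₀) := subsingleton_extend ((M0Z F s).obj (op P)) (by push_cast at h₀₁; omega)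
      rw [this.elim e 0, map_zero]
    obtain ⟨U', hle, hU', e'⟩ := exists_res_zero_zero (coh F (fibι s P).left (Over.w (fibι s P)))
      (bijective_coh_fibι F P) (fibι_pre hs P) σ hσ
      (hr.trans ((congrArg (eX ((M0Z F s).obj (op P)) 0).hom h0).trans (map_zero _)))
    obtain ⟨V', hV', hs', hle'⟩ := exists_tube hc hs U' hU'
    refine ⟨V', hV', hs', 0, eX_injective ((M0V F V').obj (op P)) 0 ?_⟩
    refine Eq.trans ?_ ((congrArg (eX ((M0V F V').obj (op P)) 0).hom (map_zero (((MV F V').obj (op P)).d q₀ _).hom)).trans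
      (map_zero (eX ((M0V F V').obj (op P)) 0).hom.hom)).symm
    refine (eX_map ((resNat F hV').app (op P)) 0 c).trans ?_
    show (cxURes (FP F P) _).f 0 σ = 0
    refine Eq.trans ?_ ((congrArg ((cxURes (FP F P) hle').f 0) e').trans (map_zero _))
    rfl
  · obtain rfl : q₀ = (m : ℤ) := by push_cast at h₀₁; omega
    have hr' : rZ (coh F (fibι s P).left (Over.w (fibι s P))) (pre V P) (fibι_pre hs P) (m + 1) σ =
        dG (FP F (fibObj s P)) m ((eX ((M0Z F s).obj (op P)) m).hom e) := by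
      refine hr.trans ((eX_d ((M0Z F s).obj (op P)) m (m + 1) _ _ rfl rfl e).trans ?_)
      exact ConcreteCategory.congr_hom (cx_d (FP F (fibObj s P)) m) _
    obtain ⟨U', hle, t, hU', e'⟩ := exists_primitive_near (coh F (fibι s P).left (Over.w (fibι s P)))
      (bijective_coh_fibι F P) (isInducing_fibι P) (injective_fibι P) (sep_fib hsep) m (fibι_pre hs P) σ hσ _ hr'
    obtain ⟨V', hV', hs', hle'⟩ := exists_tube hc hs U' hU'
    obtain ⟨t', ht'⟩ := eX_surjective ((M0V F V').obj (op P)) m ((cxURes (FP F P) hle').f m t)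
    refine ⟨V', hV', hs', t', eX_injective ((M0V F V').obj (op P)) (m + 1) ?_⟩
    refine Eq.trans ?_ ((eX_d ((M0V F V').obj (op P)) m (m + 1) _ _ rfl rfl t').trans
      ((congrArg ((cxU (FP F P) (pre V' P)).d m (m + 1)) ht').trans
        (ConcreteCategory.congr_hom ((cxURes (FP F P) hle').comm m (m + 1)) t))).symm
    refine (eX_map ((resNat F hV').app (op P)) (m + 1) c).trans ?_
    refine Eq.trans ?_ (congrArg ((cxURes (FP F P) hle').f (m + 1))
      (e'.trans (ConcreteCategory.congr_hom (cxU_d (FP F P) U' m) t).symm))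
    rfl

end Groth.Agent.Descent.Rel
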